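import Mathlib

/-!
The automorphisms of an elementary abelian 2-group of order `2 ^ m` are among the invertible matrices.
-/

set_option autoImplicit false
set_option linter.style.haveILetI false

namespace Cfsg.Lib.FusionFrame

variable {E : Type*} [CommGroup E] [Finite E]

theorem mulAut_card_dvd {m : ℕ} (hsq : ∀ x : E, x * x = 1) (hcard : Nat.card E = 2 ^ m) :
    Nat.card (MulAut E) ∣ Nat.card (GL (Fin m) (ZMod 2)) := by
  letI : Module (ZMod 2) (Additive E) := AddCommGroup.zmodModule fun x => by
    rw [two_nsmul]
    exact Additive.toMul.injective (hsq x.toMul)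
  haveI : Fact (Nat.Prime 2) := ⟨Nat.prime_two⟩
  haveI : Finite (Additive E) := Finite.of_equiv E Additive.ofMul
  haveI : Module.Finite (ZMod 2) (Additive E) := Module.Finite.of_finite
  have hrk : Module.finrank (ZMod 2) (Additive E) = m := by
    have h := Module.natCard_eq_pow_finrank (K := ZMod 2) (V := Additive E)
    rw [Nat.card_zmod, ← Nat.card_congr (Additive.ofMul (α := E)), hcard] at h
    exact (Nat.pow_right_injective le_rfl h).symm
  let b := Module.finBasisOfFinrankEq (ZMod 2) (Additive E) hrk
  let lin : MulAut E →* Module.End (ZMod 2) (Additive E) :=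
    { toFun := fun γ => (MonoidHom.toAdditive γ.toMonoidHom).toZModLinearMap 2
      map_one' := LinearMap.ext fun _ => rfl
      map_mul' := fun _ _ => LinearMap.ext fun _ => rfl }
  let f : MulAut E →* GL (Fin m) (ZMod 2) :=
    (Units.map (LinearMap.toMatrixAlgEquiv b).toMulEquiv.toMonoidHom).comp lin.toHomUnits
  refine Subgroup.card_dvd_of_injective f fun γ γ' h => MulEquiv.ext fun x => ?_
  have h1 : LinearMap.toMatrixAlgEquiv b (lin γ) = LinearMap.toMatrixAlgEquiv b (lin γ') := congrArg Units.val h
  exact congrArg Additive.toMul (LinearMap.congr_fun ((LinearMap.toMatrixAlgEquiv b).injective h1) (Additive.ofMul x))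

end Cfsg.Lib.FusionFrame
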