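import Cfsg.Agent.FusionFrame.DoubleM22
import Cfsg.Agent.ThreeTransposition.M22Count.CliqueStab

/-!
The order of the preimage of the group of a maximal commuting set, its uniqueness in 2-groups, and the conjugacy in the
cover of the elementary subgroups of that order, of the involutions into it and of its products of lifts.
-/

set_option autoImplicit false
set_option linter.style.haveILetI false
set_option linter.unusedSectionVars false

namespace Cfsg.Lib.FusionFrame

open Cfsg Subgroup Cfsg.Lib.ThreeTr Cfsg.Lib.DoubleCover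

universe u v

variable {C : Type u} [Group C] {Q : Type v} [Group Q]

/-- Products of words of one length. -/
def wordSet (π : C →* Q) (L : Set C) (B : Set Q) (k : ℕ) : Set C :=
  {x | ∃ l, IsWord π L B l ∧ l.length = k ∧ l.prod = x}

namespace Cover

variable {π : C →* Q} {D : Set Q} {z : C} {L : Set C} (K : Cover π D z L) [Finite Q] [Finite C]
include K

section Clique

variable {B : Set Q} (hB : IsMaxClique D B)
include hB

theorem ncard_wordSet {k : ℕ} (hk : k ≤ 3) : (wordSet π L B k).ncard = Nat.choose 22 k := by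
  classical
  set Tf := (Set.toFinite (liftsOver π L B)).toFinset with hT
  have h22 : Tf.card = 22 := by rw [← K.ncard_lifts hB, Set.ncard_eq_toFinset_card]
  have hw : ∀ s ∈ Tf.powersetCard k, IsWord π L B s.toList ∧ s.toList.length = k := fun s hs => by
    obtain ⟨h1, h2⟩ := Finset.mem_powersetCard.1 hs
    exact ⟨⟨s.nodup_toList, by rw [Finset.length_toList]; omega,
      fun x hx => (Set.Finite.mem_toFinset _).1 (h1 (Finset.mem_toList.1 hx))⟩, by rw [Finset.length_toList, h2]⟩
  rw [← h22, ← Finset.card_powersetCard, ← Set.ncard_coe_finset]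
  refine (Set.ncard_congr (t := wordSet π L B k) (fun s _ => s.toList.prod) (fun s hs => ⟨_, (hw s hs).1, (hw s hs).2, rfl⟩)
    (fun s t hs ht e => ?_) ?_).symm
  · ext x
    simpa using K.word_inj hB (hw s hs).1 (hw t ht).1 e x
  · rintro x ⟨l, hl, hlen, rfl⟩
    refine ⟨l.toFinset, ?_, ?_⟩
    · rw [Finset.mem_coe, Finset.mem_powersetCard, List.toFinset_card_of_nodup hl.nodup]
      exact ⟨fun x hx => (Set.Finite.mem_toFinset _).2 (hl.mem x (List.mem_toFinset.1 hx)), hlen⟩
    · refine List.Perm.prod_eq' (l₁ := l.toFinset.toList) (List.toFinset_toList hl.nodup)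
        (List.pairwise_of_forall_mem_list fun a ha b hb => ?_)
      exact K.word_comm hB hl a (List.mem_toFinset.1 (Finset.mem_toList.1 ha)) b
        (List.mem_toFinset.1 (Finset.mem_toList.1 hb))

theorem card_clique : Nat.card ↥((closure B).comap π) = 2 ^ 11 := by
  set W := wordSet π L B
  set sh : Set C → Set C := fun S => (fun x => z * x) '' S
  have e : (((closure B).comap π : Subgroup C) : Set C) =
      W 0 ∪ sh (W 0) ∪ (W 1 ∪ sh (W 1)) ∪ (W 2 ∪ sh (W 2)) ∪ W 3 := by
    refine Set.Subset.antisymm (fun x hx => ?_) ?_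
    · obtain ⟨l, hl, hx⟩ := K.word_cover hB hx
      have hle := hl.le
      rcases hx with rfl | rfl
      · have : l.prod ∈ W l.length := ⟨l, hl, rfl, rfl⟩
        interval_cases h : l.length
        exacts [.inl (.inl (.inl (.inl this))), .inl (.inl (.inr (.inl this))), .inl (.inr (.inl this)), .inr this]
      · have : l.prod ∈ W l.length := ⟨l, hl, rfl, rfl⟩
        interval_cases h : l.length
        · exact .inl (.inl (.inl (.inr ⟨_, this, rfl⟩)))
        · exact .inl (.inl (.inr (.inr ⟨_, this, rfl⟩)))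
        · exact .inl (.inr (.inr ⟨_, this, rfl⟩))
        · obtain ⟨l', hl', hlen', e'⟩ := K.word_shift hB hl h
          exact .inr ⟨l', hl', hlen', e'⟩
    · have h1 : ∀ k, W k ⊆ (((closure B).comap π : Subgroup C) : Set C) := fun k => by
        rintro _ ⟨l, hl, -, rfl⟩
        exact K.word_mem hB hl
      have h2 : ∀ k, sh (W k) ⊆ (((closure B).comap π : Subgroup C) : Set C) := fun k => by
        rintro _ ⟨x, hx, rfl⟩
        exact mul_mem (mem_comap.2 (by rw [K.z_ker]; exact one_mem _)) (h1 k hx)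
      exact Set.union_subset (Set.union_subset (Set.union_subset (Set.union_subset (h1 0) (h2 0))
        (Set.union_subset (h1 1) (h2 1))) (Set.union_subset (h1 2) (h2 2))) (h1 3)
  -- separation
  have d : ∀ {i j}, i ≠ j → Disjoint (W i ∪ sh (W i)) (W j ∪ sh (W j)) := by
    intro i j hij
    rw [Set.disjoint_left]
    have key : ∀ {k x}, x ∈ W k ∪ sh (W k) → ∃ l, IsWord π L B l ∧ l.length = k ∧ π x = π l.prod := by
      rintro k x (⟨l, hl, hk, rfl⟩ | ⟨_, ⟨l, hl, hk, rfl⟩, rfl⟩)
      exacts [⟨l, hl, hk, rfl⟩, ⟨l, hl, hk, by rw [map_mul, K.z_ker, one_mul]⟩]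
    intro x hi hj
    obtain ⟨l, hl, rfl, el⟩ := key hi
    obtain ⟨l', hl', rfl, el'⟩ := key hj
    exact hij (K.word_length hB hl hl' (el.symm.trans el'))
  have dz : ∀ {k}, k ≤ 2 → Disjoint (W k) (sh (W k)) := fun hk => Set.disjoint_left.2 (by
    rintro _ ⟨l, hl, hlk, rfl⟩ ⟨_, ⟨l', hl', -, rfl⟩, e'⟩
    exact K.word_shift_ne hB hl hl' (hlk ▸ hk) e'.symm)
  have hc : ∀ {k}, k ≤ 2 → (W k ∪ sh (W k)).ncard = 2 * Nat.choose 22 k := fun hk => by
    rw [Set.ncard_union_eq (dz hk), Set.ncard_image_of_injective _ (mul_right_injective z),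
      K.ncard_wordSet hB (hk.trans (by norm_num)), two_mul]
  have h33 : W 3 ⊆ W 3 ∪ sh (W 3) := Set.subset_union_left
  show Nat.card (((closure B).comap π : Subgroup C) : Set C) = 2 ^ 11
  rw [Nat.card_coe_set_eq, e, Set.ncard_union_eq (Set.disjoint_union_left.2 ⟨Set.disjoint_union_left.2
      ⟨(d (by norm_num)).mono_right h33, (d (by norm_num)).mono_right h33⟩, (d (by norm_num)).mono_right h33⟩),
    Set.ncard_union_eq (Set.disjoint_union_left.2 ⟨d (by norm_num), d (by norm_num)⟩),
    Set.ncard_union_eq (d (by norm_num)), hc (by norm_num), hc (by norm_num), hc le_rfl, K.ncard_wordSet hB le_rfl]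
  rfl

/-- An elementary subgroup in a 2-group over the clique is inside or smaller. -/
theorem elementary_le {P : Subgroup C} (hP : IsPGroup 2 ↥P) (hAP : (closure B).comap π ≤ P) {E : Subgroup C}
    (hEP : E ≤ P) (hE2 : ∀ x ∈ E, x * x = 1) (hEc : ∀ x ∈ E, ∀ y ∈ E, Commute x y) :
    E ≤ (closure B).comap π ∨ Nat.card ↥E < 2 ^ 11 := by
  have hE := K.m22.cls.1
  have hP' : IsPGroup 2 ↥(P.map π) := hP.map π
  have hBP : ∀ b ∈ B, b ∈ P.map π := fun b hb => by
    obtain ⟨x, -, rfl⟩ := K.onto b (hB.sub hb)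
    exact mem_map_of_mem π (hAP (mem_comap.2 (subset_closure hb)))
  have hcomm : ∀ a ∈ D, ∀ b ∈ D, a ∈ P.map π → b ∈ P.map π → Commute a b := by
    intro a ha b hb haP hbP
    by_contra hnc
    have h3 := cube_of_not_commute hE ha hb hnc
    obtain ⟨k, hk⟩ := hP' ⟨a * b, mul_mem haP hbP⟩
    have hd := Nat.dvd_gcd (orderOf_dvd_of_pow_eq_one h3) (orderOf_dvd_of_pow_eq_one (congrArg Subtype.val hk))
    rw [Nat.Coprime.gcd_eq_one (Nat.Coprime.pow_right k (by norm_num)), Nat.dvd_one] at hd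
    have := orderOf_of_not_commute hE ha hb hnc
    omega
  have hst : ∀ x ∈ E.map π, ∀ b ∈ B, x * b * x⁻¹ ∈ B := fun x hx b hb => by
    have hxP := Subgroup.map_mono hEP hx
    exact hB.max _ (conj_mem K.m22.cls x (hB.sub hb)) fun f hf => hcomm _ (conj_mem K.m22.cls x (hB.sub hb)) _
      (hB.sub hf) (mul_mem (mul_mem hxP (hBP b hb)) (inv_mem hxP)) (hBP f hf)
  rcases hB.elementary_small K.m22 (E := E.map π) (fun x hx => by
      obtain ⟨y, hy, rfl⟩ := hx
      rw [← map_mul, hE2 y hy, map_one]) (fun x hx y hy => by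
      obtain ⟨u, hu, rfl⟩ := hx
      obtain ⟨v, hv, rfl⟩ := hy
      exact (hEc u hu v hv).map π) hst with h | h
  · exact Or.inl fun x hx => mem_comap.2 (h (mem_map_of_mem π hx))
  refine Or.inr ?_
  have key : ∀ H : Subgroup C, Nat.card ↥H = Nat.card ↥(H.map π) * Nat.card ↥(π.comp H.subtype).ker := by
    intro H
    rw [card_eq_card_quotient_mul_card_subgroup (π.comp H.subtype).ker]
    refine congrArg (· * _) ((Nat.card_congr (QuotientGroup.quotientKerEquivRange (π.comp H.subtype)).toEquiv).trans ?_)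
    rw [MonoidHom.range_comp, Subgroup.range_subtype]
  set A := (closure B).comap π
  have hAmap : A.map π = closure B := map_comap_eq_self_of_surjective K.double.surj _
  have hz : z ∈ A := mem_comap.2 (by rw [K.z_ker]; exact one_mem _)
  have hA2 : Nat.card ↥(π.comp A.subtype).ker = 2 := by
    rw [Nat.card_eq_two_iff]
    refine ⟨1, ⟨⟨z, hz⟩, K.z_ker⟩, fun e => K.z_ne (congrArg (fun y => (y.1 : C)) e).symm, ?_⟩
    refine Set.eq_univ_of_forall fun y => ?_
    rcases K.double.ker y.1.1 y.2 with e | e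
    · exact Or.inl (Subtype.ext (Subtype.ext e))
    · exact Or.inr (Subtype.ext (Subtype.ext e))
  have hle : Nat.card ↥(π.comp E.subtype).ker ≤ 2 := by
    rw [← hA2]
    refine Nat.card_le_card_of_injective (fun y => ⟨⟨y.1.1, mem_comap.2 ?_⟩, y.2⟩)
      fun y y' e => Subtype.ext (Subtype.ext (congrArg (fun w => (w.1 : C)) e))
    rw [show π y.1.1 = 1 from y.2]; exact one_mem _
  have hA := key A
  rw [hAmap, hA2, K.card_clique hB] at hA
  rw [key E, hA]
  calc Nat.card ↥(E.map π) * Nat.card ↥(π.comp E.subtype).ker ≤ Nat.card ↥(E.map π) * 2 := Nat.mul_le_mul_left _ hle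
    _ < Nat.card ↥(closure B) * 2 := Nat.mul_lt_mul_of_pos_right h (by norm_num)

theorem isPGroup_clique : IsPGroup 2 ↥((closure B).comap π) := fun x =>
  ⟨1, Subtype.ext (by rw [pow_one, pow_two]; exact (K.cliqueGroup_elementary hB).1 _ x.2)⟩

/-- The elementary subgroups of the largest order are conjugate. -/
theorem elementary_conj {E : Subgroup C} (hE2 : ∀ x ∈ E, x * x = 1) (hEc : ∀ x ∈ E, ∀ y ∈ E, Commute x y)
    (hEcard : Nat.card ↥E = 2 ^ 11) : ∃ g : C, E.map (MulAut.conj g).toMonoidHom = (closure B).comap π := by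
  haveI : Fact (Nat.Prime 2) := ⟨Nat.prime_two⟩
  obtain ⟨P, hP⟩ := (K.isPGroup_clique hB).exists_le_sylow
  obtain ⟨R, hR⟩ := (show IsPGroup 2 ↥E from fun x => ⟨1, Subtype.ext (by rw [pow_one, pow_two]; exact hE2 _ x.2)⟩).exists_le_sylow
  obtain ⟨g, hg⟩ := MulAction.exists_smul_eq C R P
  refine ⟨g, ?_⟩
  have hcard : Nat.card ↥(E.map (MulAut.conj g).toMonoidHom) = 2 ^ 11 := by
    rw [← hEcard]
    exact (Nat.card_congr (E.equivMapOfInjective _ (MulAut.conj g).injective).toEquiv).symm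
  rcases K.elementary_le hB P.isPGroup' hP (E := E.map (MulAut.conj g).toMonoidHom) (fun x hx => by
      obtain ⟨y, hy, rfl⟩ := hx
      rw [← hg, Sylow.coe_subgroup_smul]
      exact ⟨y, hR hy, rfl⟩)
    (fun x hx => by obtain ⟨y, hy, rfl⟩ := hx; rw [← map_mul, hE2 y hy, map_one])
    (fun x hx y hy => by
      obtain ⟨u, hu, rfl⟩ := hx; obtain ⟨v, hv, rfl⟩ := hy
      exact (hEc u hu v hv).map _) with h | h
  · exact eq_of_le_of_card_ge h (by rw [hcard, K.card_clique hB])
  · omega

/-- Every involution is conjugate into the group. -/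
theorem involution_conj {x : C} (hx : x * x = 1) : ∃ g : C, g * x * g⁻¹ ∈ (closure B).comap π := by
  by_cases h1 : π x = 1
  · exact ⟨1, mem_comap.2 (by simp [h1])⟩
  haveI : Fact (Nat.Prime 2) := ⟨Nat.prime_two⟩
  obtain ⟨l, -, -, -, hlD, hlc, hlp⟩ := K.m22.involution_form
    (orderOf_eq_prime (p := 2) (by rw [pow_two, ← map_mul, hx, map_one]) h1)
  obtain ⟨B', ⟨hl, h1, h2⟩, hmax⟩ := WellFounded.has_min (wellFounded_gt (α := Set Q))
    {B' | {q | q ∈ l} ⊆ B' ∧ B' ⊆ D ∧ ∀ a ∈ B', ∀ b ∈ B', Commute a b} ⟨_, subset_rfl, hlD, hlc⟩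
  have hB' : IsMaxClique D B' := by
    refine ⟨h1, h2, fun y hy hc => by_contra fun hyB => hmax (insert y B')
      ⟨hl.trans (Set.subset_insert _ _), Set.insert_subset hy h1, ?_⟩ (Set.ssubset_insert hyB)⟩
    rintro a (rfl | ha) b (rfl | hb)
    exacts [Commute.refl _, hc b hb, (hc a ha).symm, h2 a ha b hb]
  obtain ⟨g, hg⟩ := K.elementary_conj hB (K.cliqueGroup_elementary hB').1 (K.cliqueGroup_elementary hB').2
    (K.card_clique hB')
  refine ⟨g, hg ▸ ⟨x, mem_comap.2 ?_, rfl⟩⟩
  rw [← hlp]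
  exact list_prod_mem fun q hq => subset_closure (hl hq)

/-- Words of one length have conjugate products. -/
theorem word_isConj {l l' : List C} (hl : IsWord π L B l) (hl' : IsWord π L B l') (e : l.length = l'.length) :
    ∃ g : C, g * l.prod * g⁻¹ = l'.prod := by
  have pull : ∀ {g : C} {a a' : C}, a ∈ L → a' ∈ L → π g * π a * (π g)⁻¹ = π a' → g * a * g⁻¹ = a' :=
    fun {g a a'} ha ha' h => K.inj (K.conj g a ha) ha' (by rw [map_mul, map_mul, map_inv, h])
  obtain ⟨a1, a2, a3⟩ := K.map_word hB hl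
  obtain ⟨b1, b2, b3⟩ := K.map_word hB hl'
  match l, l', hl.le, e with
  | [], [], _, _ => exact ⟨1, by simp⟩
  | [a], [a'], _, _ =>
    obtain ⟨q, hq⟩ := exists_conj K.m22.cls (a2 (π a) (by simp)) (b2 (π a') (by simp))
    obtain ⟨g, rfl⟩ := K.double.surj q
    exact ⟨g, by simpa using pull (hl.mem a (by simp)).1 (hl'.mem a' (by simp)).1 hq⟩
  | [a, b], [a', b'], _, _ =>
    obtain ⟨q, hqa, hqb⟩ := K.m22.pair_transitive (a2 (π a) (by simp))
      (b := π b) ⟨a2 _ (by simp), fun e => by simp [e] at a1, a3 _ (by simp) _ (by simp)⟩ (b2 (π a') (by simp))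
      (b' := π b') ⟨b2 _ (by simp), fun e => by simp [e] at b1, b3 _ (by simp) _ (by simp)⟩
    obtain ⟨g, rfl⟩ := K.double.surj q
    refine ⟨g, ?_⟩
    simp only [List.prod_cons, List.prod_nil, mul_one]
    rw [← pull (hl.mem a (by simp)).1 (hl'.mem a' (by simp)).1 hqa,
      ← pull (hl.mem b (by simp)).1 (hl'.mem b' (by simp)).1 hqb]
    group
  | [a, b, c], [a', b', c'], _, _ =>
    obtain ⟨q, hqa, hqb, hqc⟩ := K.m22.triple_transitive (a2 (π a) (by simp))
      (b := π b) ⟨a2 _ (by simp), fun e => by simp [e] at a1, a3 _ (by simp) _ (by simp)⟩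
      (c := π c) ⟨a2 _ (by simp), fun e => by simp [e] at a1, a3 _ (by simp) _ (by simp)⟩
      ⟨a2 _ (by simp), fun e => by simp [e] at a1, a3 _ (by simp) _ (by simp)⟩ (b2 (π a') (by simp))
      (b' := π b') ⟨b2 _ (by simp), fun e => by simp [e] at b1, b3 _ (by simp) _ (by simp)⟩
      (c' := π c') ⟨b2 _ (by simp), fun e => by simp [e] at b1, b3 _ (by simp) _ (by simp)⟩
      ⟨b2 _ (by simp), fun e => by simp [e] at b1, b3 _ (by simp) _ (by simp)⟩
    obtain ⟨g, rfl⟩ := K.double.surj q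
    refine ⟨g, ?_⟩
    simp only [List.prod_cons, List.prod_nil, mul_one]
    rw [← pull (hl.mem a (by simp)).1 (hl'.mem a' (by simp)).1 hqa,
      ← pull (hl.mem b (by simp)).1 (hl'.mem b' (by simp)).1 hqb,
      ← pull (hl.mem c (by simp)).1 (hl'.mem c' (by simp)).1 hqc]
    group

end Clique

end Cover

end Cfsg.Lib.FusionFrame
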