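import Cfsg.Agent.FusionFrame.Orbit

/-!
The remaining orbit sizes 276 and 2047, and the conclusion.
-/

set_option autoImplicit false
set_option linter.style.haveILetI false
set_option linter.unusedSectionVars false

namespace Cfsg.Lib.FusionFrame

variable {E : Type*} [CommGroup E] [Finite E] {z : E} {T : Set E} {Γ : Subgroup (MulAut E)}

namespace Frame

variable (F : Frame z T Γ)
include F

theorem shift_mem_facts (h1 : T ⊆ orbitSet z Γ) (h2 : shift z T ⊆ orbitSet z Γ) :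
    (∀ a ∈ T, z * a ∉ T ∧ z * a ∈ orbitSet z Γ) ∧
      ∀ a ∈ shift z T, z * a ∉ shift z T ∧ z * a ∈ orbitSet z Γ := by
  refine ⟨fun a ha => ⟨fun e => Set.disjoint_left.1 F.point_shift e ⟨a, ha, rfl⟩, h2 ⟨a, ha, rfl⟩⟩, fun a ha => ?_⟩
  have h := (mem_shift_iff F.hz).1 ha
  exact ⟨Set.disjoint_left.1 F.point_shift h, h1 h⟩

/-- The orbit made of the points and the products of pairs. -/
theorem not_pairs (h1 : T ⊆ orbitSet z Γ) (h2 : shift z T ⊆ orbitSet z Γ) (h3 : pairProds T ⊆ orbitSet z Γ)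
    (h4 : Disjoint (shift z (pairProds T)) (orbitSet z Γ)) (h5 : Disjoint (tripleProds T) (orbitSet z Γ)) :
    False := by
  have h22 : (shift z T).ncard = 22 := by rw [F.card_shift, F.points]
  have eP := pairProds_shift (T := T) F.hz
  obtain ⟨f1, f2⟩ := F.shift_mem_facts h1 h2
  -- the same rule on either side
  have ex1 : ∀ {X : Set E}, X = T ∨ X = shift z T → ∀ t ∈ T, Rel z Γ X t z → ∀ w,
      Rel z Γ X t w ↔ w = z ∨ (w ∈ T ∧ w ≠ t) := by
    rintro X (rfl | rfl) t ht hr w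
    · exact F.exact_rel h4 h5 h3 F.stable_point h1 F.z_notMem.1 F.points rfl f1 ht hr
    · exact F.exact_rel h4 h5 h3 F.stable_shift h2 F.z_notMem.2.1 h22 eP f2 ht hr
  have ex2 : ∀ {X : Set E}, X = T ∨ X = shift z T → ∀ t ∈ shift z T, Rel z Γ X t z → ∀ w,
      Rel z Γ X t w ↔ w = z ∨ (w ∈ shift z T ∧ w ≠ t) := by
    have h4' : Disjoint (shift z (pairProds (shift z T))) (orbitSet z Γ) := eP.symm ▸ h4
    have h3' : pairProds (shift z T) ⊆ orbitSet z Γ := eP.symm ▸ h3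
    have h5' : Disjoint (tripleProds (shift z T)) (orbitSet z Γ) := F.swap_triples.symm ▸ h5
    rintro X (rfl | rfl) t ht hr w
    · exact F.swap.exact_rel h4' h5' h3' F.stable_point h1 F.z_notMem.1 F.points eP.symm f1 ht hr
    · exact F.swap.exact_rel h4' h5' h3' F.stable_shift h2 F.z_notMem.2.1 h22 rfl f2 ht hr
  obtain ⟨t, ht⟩ := Set.nonempty_of_ncard_ne_zero (s := T) (by rw [F.points]; norm_num)
  rcases F.in_sets h1 h2 with ⟨e1, e2⟩ | ⟨e1, e2⟩
  · -- the other kind is transitive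
    have htr : ∀ y x w, Rel z Γ (shift z T) y x → Rel z Γ (shift z T) x w →
        Rel z Γ (shift z T) y w ∨ w = y := by
      intro y x w hyx hxw
      obtain ⟨γ, hγ, rfl, v, hv, rfl⟩ := hyx
      have hxw' := hxw.map (inv_mem hγ)
      rw [symm_apply_of rfl] at hxw'
      have hw : γ (γ⁻¹ w) = w := γ.apply_symm_apply w
      rcases (ex2 (Or.inr rfl) v hv (e2.symm.subset hv) _).1 hxw' with k | ⟨k, -⟩
      · exact Or.inr (by rw [← hw, k])
      · exact Or.inl ⟨γ, hγ, rfl, _, k, hw⟩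
    have r1 : Rel z Γ T t z := e1.symm.subset ht
    have r2 : Rel z Γ (shift z T) t (z * t) := by rw [mul_comm]; exact F.rel_other r1
    have r3 : Rel z Γ (shift z T) (z * t) z := e2.symm.subset ⟨t, ht, rfl⟩
    rcases htr _ _ _ r2 r3 with k | k
    · exact rel_disjoint F.stable_point F.point_shift r1 k
    · exact F.z_notMem.1 (k ▸ ht)
  · -- the two kinds alternate
    have halt : ∀ y x w, Rel z Γ T y x → Rel z Γ T y w → w ≠ x → Rel z Γ (shift z T) x w := by
      intro y x w hyx hyw hne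
      obtain ⟨γ, hγ, rfl, v, hv, rfl⟩ := hyx
      obtain ⟨v', hv', rfl⟩ := (rel_iff F.stable_point hγ).1 hyw
      exact ((ex1 (Or.inr rfl) v hv (e2.symm.subset hv) v').2 (Or.inr ⟨hv', fun e => hne (e ▸ rfl)⟩)).map hγ
    obtain ⟨x₁, hx₁⟩ := Set.nonempty_of_ncard_ne_zero (s := shift z T) (by rw [h22]; norm_num)
    obtain ⟨x₂, hx₂, hne⟩ := Set.nonempty_of_ncard_ne_zero (s := shift z T \ {x₁})
      (by have := F.others h22 x₁; omega)
    have r1 : Rel z Γ T x₁ z := e1.symm.subset hx₁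
    have r2 : Rel z Γ T x₁ x₂ := (ex2 (Or.inl rfl) x₁ hx₁ r1 x₂).2 (Or.inr ⟨hx₂, hne⟩)
    exact rel_disjoint F.stable_point F.point_shift (e1.symm.subset hx₂ : Rel z Γ T x₂ z)
      (halt x₁ x₂ z r2 r1 fun e => F.z_notMem.2.1 (e ▸ hx₂))

/-- The orbit made of the points and `z` times the products of pairs. -/
theorem not_shift_pairs (h1 : T ⊆ orbitSet z Γ) (h2 : shift z T ⊆ orbitSet z Γ)
    (h3 : Disjoint (pairProds T) (orbitSet z Γ)) (h4 : shift z (pairProds T) ⊆ orbitSet z Γ)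
    (h5 : Disjoint (tripleProds T) (orbitSet z Γ)) : False := by
  have h22 : (shift z T).ncard = 22 := by rw [F.card_shift, F.points]
  obtain ⟨t, ht⟩ := Set.nonempty_of_ncard_ne_zero (s := T) (by rw [F.points]; norm_num)
  obtain ⟨f1, f2⟩ := F.shift_mem_facts h1 h2
  obtain ⟨X, hXO, hzX, hcX, hXT, hzt, hr⟩ : ∃ X : Set E, X ⊆ orbitSet z Γ ∧ z ∉ X ∧ X.ncard = 22 ∧
      pairProds X = pairProds T ∧ (∀ a ∈ X, z * a ∉ X ∧ z * a ∈ orbitSet z Γ) ∧ Rel z Γ X t z := by
    rcases F.in_sets h1 h2 with ⟨e1, -⟩ | ⟨-, e2⟩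
    · exact ⟨T, h1, F.z_notMem.1, F.points, rfl, f1, e1.symm.subset ht⟩
    · exact ⟨_, h2, F.z_notMem.2.1, h22, pairProds_shift F.hz T, f2, e2.symm.subset ht⟩
  obtain ⟨γ, hγ, hγt, u, hu, hγu⟩ := hr
  have key : ∀ v ∈ X, v ≠ u → ∃ t' ∈ T, t' ≠ t ∧ γ v = z * (t * t') := by
    intro v hv hvu
    have hb : γ v ∈ orbitSet z Γ := orbit_closed (hXO hv) hγ
    have hbz : γ v ≠ z := fun e => hvu (γ.injective (e.trans hγu.symm))
    have hbt : γ v ≠ t := fun e => hzX (γ.injective (e.trans hγt.symm) ▸ hv)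
    have htb : t * γ v ∈ orbitSet z Γ := by
      rw [← hγt, ← map_mul]
      exact orbit_closed (hzt v hv).2 hγ
    have htzb : t * (z * γ v) ∈ orbitSet z Γ := by
      have e : γ (z * (u * v)) = t * (z * γ v) := by rw [map_mul, map_mul, hγt, hγu]
      exact e ▸ orbit_closed (h4 ⟨_, hXT.subset ⟨u, hu, v, hv, Ne.symm hvu, rfl⟩, rfl⟩) hγ
    rcases F.cover (γ v) with h | h | h | h | h | h | h
    · exact absurd (h ▸ hb) F.one_notMem_orbit
    · exact absurd h hbz
    · exact absurd htb (Set.disjoint_left.1 h3 ⟨t, ht, _, h, Ne.symm hbt, rfl⟩)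
    · exfalso
      obtain ⟨a, ha, e⟩ := h
      by_cases hat : a = t
      · have e1 : γ v = γ (u * z) := by
          rw [map_mul, hγu, hγt, ← hat]
          exact e.symm
        refine absurd ?_ (hzt u hu).1
        rw [mul_comm, ← γ.injective e1]
        exact hv
      · rw [← e, show z * (z * a) = a from F.mul_self_left z a] at htzb
        exact Set.disjoint_left.1 h3 ⟨t, ht, a, ha, Ne.symm hat, rfl⟩ htzb
    · exact absurd hb (Set.disjoint_left.1 h3 h)
    · obtain ⟨x, hx, e⟩ := h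
      rcases F.triple_of_pair ht hx with k | ⟨t', ht', hne, rfl⟩
      · rw [← e, show z * (z * x) = x from F.mul_self_left z x] at htzb
        exact absurd htzb (Set.disjoint_left.1 h5 k)
      · exact ⟨t', ht', hne, e.symm⟩
    · exact absurd hb (Set.disjoint_left.1 h5 h)
  obtain ⟨v, w, ⟨hv, hvu⟩, ⟨hw, hwu⟩, hne⟩ := (Set.one_lt_ncard_iff (Set.toFinite _)).1 (F.others hcX u)
  obtain ⟨a, ha, hat, ea⟩ := key v hv hvu
  obtain ⟨b, hb, hbt, eb⟩ := key w hw hwu
  have hO : t * (γ v * γ w) ∈ orbitSet z Γ := by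
    have e : γ (z * (v * w)) = t * (γ v * γ w) := by rw [map_mul, map_mul, hγt]
    exact e ▸ orbit_closed (h4 ⟨_, hXT.subset ⟨v, hv, w, hw, hne, rfl⟩, rfl⟩) hγ
  rw [ea, eb, mul_mul_mul_comm, F.hz, one_mul, mul_mul_mul_comm, F.sq, one_mul] at hO
  have hab : a ≠ b := fun e => hne (γ.injective (by rw [ea, eb, e]))
  exact Set.disjoint_left.1 h5 ⟨t, ht, a, ha, b, hb, Ne.symm hat, Ne.symm hbt, hab, mul_assoc t a b⟩ hO

/-- The orbit of every nontrivial element. -/
theorem not_full (h1 : T ⊆ orbitSet z Γ) (h2 : shift z T ⊆ orbitSet z Γ)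
    (hO : (orbitSet z Γ).ncard = 2047) : False := by
  classical
  haveI := Fintype.ofFinite E
  haveI : Fact (Nat.Prime 3) := ⟨Nat.prime_three⟩
  set S := T ∪ shift z T with hSdef
  have hS : Stable z Γ S := fun γ hγ hz x hx =>
    hx.elim (fun h => Or.inl (F.stab γ hγ hz x h)) fun h => Or.inr (F.stable_shift γ hγ hz x h)
  have hsym0 : ∀ x ∈ S, Rel z Γ S x z := by
    intro x hx
    have k1 : ∀ {x}, Rel z Γ T x z → Rel z Γ S x z := fun ⟨γ, hγ, e, u, hu, e'⟩ => ⟨γ, hγ, e, u, Or.inl hu, e'⟩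
    have k2 : ∀ {x}, Rel z Γ (shift z T) x z → Rel z Γ S x z := fun ⟨γ, hγ, e, u, hu, e'⟩ =>
      ⟨γ, hγ, e, u, Or.inr hu, e'⟩
    rcases F.in_sets h1 h2 with ⟨e1, e2⟩ | ⟨e1, e2⟩ <;> rcases hx with hx | hx
    exacts [k1 (e1.symm.subset hx), k2 (e2.symm.subset hx), k2 (e2.symm.subset hx), k1 (e1.symm.subset hx)]
  have hsym : ∀ y x, Rel z Γ S y x → Rel z Γ S x y := by
    rintro y x ⟨γ, hγ, rfl, u, hu, rfl⟩
    exact (hsym0 u hu).map hγ
  have hmul : ∀ y x, Rel z Γ S y x → Rel z Γ S y (y * x) := by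
    rintro y x ⟨γ, hγ, rfl, u, hu, rfl⟩
    refine ⟨γ, hγ, rfl, z * u, ?_, map_mul γ z u⟩
    rcases hu with h | h
    · exact Or.inr ⟨u, h, rfl⟩
    · exact Or.inl ((mem_shift_iff F.hz).1 h)
  -- the lines
  let φ : {p : E × E // Rel z Γ S p.1 p.2} → {p : E × E // Rel z Γ S p.1 p.2} := fun p =>
    ⟨(p.1.2, p.1.1 * p.1.2), by have := hmul _ _ (hsym _ _ p.2); rwa [mul_comm] at this⟩
  have h3 : ∀ p, φ (φ (φ p)) = p := fun p => by
    have e2 : p.1.2 * (p.1.1 * p.1.2) = p.1.1 := by rw [mul_comm, mul_assoc, F.sq, mul_one]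
    refine Subtype.ext (Prod.ext ?_ ?_)
    · exact e2
    · show p.1.1 * p.1.2 * (p.1.2 * (p.1.1 * p.1.2)) = p.1.2
      rw [e2, mul_comm, F.mul_self_left]
  let σ : Equiv.Perm {p : E × E // Rel z Γ S p.1 p.2} := ⟨φ, fun p => φ (φ p), h3, h3⟩
  have hcard : Fintype.card {p : E × E // Rel z Γ S p.1 p.2} = 2047 * 44 := by
    rw [Fintype.card_subtype]
    have e := Finset.card_eq_sum_card_fiberwise (f := Prod.fst)
      (s := (Finset.univ : Finset (E × E)).filter fun p => Rel z Γ S p.1 p.2)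
      (t := Finset.univ.filter (· ∈ orbitSet z Γ)) fun p hp => by
        simp only [Finset.coe_filter, Finset.mem_univ, true_and, Set.mem_ofPred_eq] at hp ⊢
        exact hp.left_mem
    rw [e, Finset.sum_const_nat (m := 44) fun y hy => ?_, ← Set.ncard_coe_finset,
      show ((Finset.univ.filter (· ∈ orbitSet z Γ) : Finset E) : Set E) = orbitSet z Γ by ext; simp, hO]
    obtain ⟨γ, hγ, rfl⟩ := (Finset.mem_filter.1 hy).2
    rw [← Set.ncard_coe_finset, ← show S.ncard = 44 by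
      rw [hSdef, Set.ncard_union_eq F.point_shift, F.card_shift, F.points]]
    refine (Set.ncard_congr (fun u _ => (γ z, γ u)) (fun u hu => ?_) (fun u v _ _ e => γ.injective
      (congrArg Prod.snd e)) fun p hp => ?_).symm
    · simp only [Finset.coe_filter, Finset.mem_univ, true_and, Set.mem_ofPred_eq, Finset.mem_filter]
      exact ⟨⟨γ, hγ, rfl, u, hu, rfl⟩, trivial⟩
    · simp only [Finset.coe_filter, Finset.mem_univ, true_and, Set.mem_ofPred_eq, Finset.mem_filter] at hp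
      obtain ⟨h1, h2⟩ := hp
      rw [h2] at h1
      obtain ⟨u, hu, e⟩ := (rel_iff hS hγ).1 h1
      exact ⟨u, hu, Prod.ext h2.symm e⟩
  obtain ⟨p, hp⟩ := Equiv.Perm.exists_fixed_point_of_prime (p := 3) (n := 1) (σ := σ)
    (by rw [hcard]; norm_num) (Equiv.ext fun q => h3 q)
  have hp' : p.1.2 = p.1.1 := congrArg (fun q => q.1.1) hp
  exact rel_ne (show z ∉ S from fun h => h.elim F.z_notMem.1 F.z_notMem.2.1) p.2 hp'

/-- The orbit has twenty-three points. -/
theorem orbit_card (hne : ∃ γ ∈ Γ, γ z ≠ z) : (orbitSet z Γ).ncard = 23 := by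
  have hdvd := F.orbit_dvd
  set O := orbitSet z Γ
  have hO : Stable z Γ (O \ {z}) := fun γ hγ hz x hx => ⟨orbit_closed hx.1 hγ, fun e => hx.2
    (γ.injective ((Set.mem_singleton_iff.1 e).trans hz.symm))⟩
  have hs := F.split (W := O \ {z}) (fun h => F.one_notMem_orbit h.1) fun h => h.2 rfl
  have hcard : O.ncard = (O \ {z}).ncard + 1 := (Set.ncard_sdiff_singleton_add_one F.z_mem_orbit (Set.toFinite _)).symm
  have hpos : 0 < (O \ {z}).ncard := by
    obtain ⟨γ, hγ, h⟩ := hne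
    exact (Set.ncard_pos (Set.toFinite _)).2 ⟨γ z, ⟨γ, hγ, rfl⟩, h⟩
  have mono : ∀ {X : Set E}, X ⊆ O \ {z} → X ⊆ O := fun h x hx => (h hx).1
  have apart : ∀ {X : Set E}, z ∉ X → Disjoint X (O \ {z}) → Disjoint X O := fun hz h =>
    Set.disjoint_left.2 fun x hx hxO => Set.disjoint_left.1 h hx ⟨hxO, fun e => hz ((Set.mem_singleton_iff.1 e) ▸ hx)⟩
  have e1 := inter_card_cases F.trans_point hO
  have e2 := inter_card_cases (F.trans_shift F.trans_point) hO
  have e3 := inter_card_cases F.trans_pair hO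
  have e4 := inter_card_cases (F.trans_shift F.trans_pair) hO
  have e5 := inter_card_cases F.trans_triple hO
  rw [F.points] at e1
  rw [F.card_shift, F.points] at e2
  rw [F.pairs] at e3
  rw [F.card_shift, F.pairs] at e4
  rw [F.triples] at e5
  obtain ⟨hz1, hz2, hz3, hz4, hz5⟩ := F.z_notMem
  have eP := pairProds_shift (T := T) F.hz
  rcases e1 with ⟨a, a'⟩ | ⟨a, a'⟩ <;> rcases e2 with ⟨b, b'⟩ | ⟨b, b'⟩ <;>
    rcases e3 with ⟨c, c'⟩ | ⟨c, c'⟩ <;> rcases e4 with ⟨d, d'⟩ | ⟨d, d'⟩ <;>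
    rcases e5 with ⟨f, f'⟩ | ⟨f, f'⟩ <;>
    rw [a', b', c', d', f'] at hs <;> rw [hcard, hs] at hdvd <;>
    first
      | (norm_num [Fin.prod_univ_succ] at hdvd; done)
      | omega
      | exact (F.not_full (mono a) (mono b) (hcard.trans (by omega))).elim
      | exact (F.not_fortyfive (mono a) (mono b) (apart hz3 c) (apart hz4 d) (apart hz5 f)).elim
      | exact (F.not_pairs (mono a) (mono b) (mono c) (apart hz4 d) (apart hz5 f)).elim
      | exact (F.not_shift_pairs (mono a) (mono b) (apart hz3 c) (mono d) (apart hz5 f)).elim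
      | exact (F.not_two_fifty_four (mono a) (apart hz2 b) (apart hz5 f)
          (Or.inl ⟨mono c, apart hz4 d⟩)).elim
      | exact (F.not_two_fifty_four (mono a) (apart hz2 b) (apart hz5 f)
          (Or.inr ⟨apart hz3 c, mono d⟩)).elim
      | exact (F.swap.not_two_fifty_four (mono b)
          (by rw [shift_shift F.hz]; exact apart hz1 a) (F.swap_triples ▸ apart hz5 f)
          (by rw [eP]; exact Or.inl ⟨mono c, apart hz4 d⟩)).elim
      | exact (F.swap.not_two_fifty_four (mono b)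
          (by rw [shift_shift F.hz]; exact apart hz1 a) (F.swap_triples ▸ apart hz5 f)
          (by rw [eP]; exact Or.inr ⟨apart hz3 c, mono d⟩)).elim

end Frame

end Cfsg.Lib.FusionFrame
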