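import Mathlib
import Cfsg.Prelude.Def_KGroupFacts

/-!
Two perfect double covers of a group all of whose stem extensions have cyclic kernel are the same.
-/

set_option autoImplicit false
set_option linter.style.haveILetI false
set_option linter.unusedSectionVars false

namespace Cfsg.Lib.FusionFrame

open Subgroup

universe u v w

theorem exists_cover_equiv {K : Type u} {C : Type v} {Q : Type w} [Group K] [Group C] [Group Q] [Finite K] [Finite C]
    (σ : K →* Q) (π : C →* Q) (hσ : Function.Surjective σ) (hπ : Function.Surjective π)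
    (hσc : σ.ker ≤ center K) (hπc : π.ker ≤ center C) (hK : commutator K = ⊤) (hC : commutator C = ⊤)
    (h2 : Nat.card σ.ker = 2) (h2' : Nat.card π.ker = 2)
    (hcyc : ∀ {Γ : Type max u v} [Group Γ] [Finite Γ] (τ : Γ →* Q), Cfsg.IsStemExtension τ → IsCyclic τ.ker) :
    ∃ e : K ≃* C, ∀ x, π (e x) = σ x := by
  set Δ := (σ.comp (MonoidHom.fst K C)).eqLocus (π.comp (MonoidHom.snd K C)) with hΔ
  have mem : ∀ p : K × C, p ∈ Δ ↔ σ p.1 = π p.2 := fun p => Iff.rfl
  set P := ⁅Δ, Δ⁆ with hP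
  have hPΔ : P ≤ Δ := commutator_le_self Δ
  have hf : ∀ (f : K × C →* K), f = MonoidHom.fst K C → P.map f = ⊤ := by
    rintro f rfl
    rw [hP, map_commutator, show Δ.map (MonoidHom.fst K C) = ⊤ from ?_, ← _root_.commutator_def, hK]
    refine eq_top_iff.2 fun a _ => ?_
    obtain ⟨b, hb⟩ := hπ (σ a)
    exact ⟨(a, b), (mem _).2 hb.symm, rfl⟩
  have hh : P.map (MonoidHom.snd K C) = ⊤ := by
    rw [hP, map_commutator, show Δ.map (MonoidHom.snd K C) = ⊤ from ?_, ← _root_.commutator_def, hC]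
    refine eq_top_iff.2 fun b _ => ?_
    obtain ⟨a, ha⟩ := hσ (π b)
    exact ⟨(a, b), (mem _).2 ha, rfl⟩
  set f : ↥P →* K := (MonoidHom.fst K C).comp P.subtype
  set h : ↥P →* C := (MonoidHom.snd K C).comp P.subtype
  have hfs : Function.Surjective f := fun a => by
    obtain ⟨p, hp, e⟩ := (hf _ rfl).ge (mem_top a)
    exact ⟨⟨p, hp⟩, e⟩
  have hhs : Function.Surjective h := fun b => by
    obtain ⟨p, hp, e⟩ := hh.ge (mem_top b)
    exact ⟨⟨p, hp⟩, e⟩
  set τ := σ.comp f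
  have hcen : ∀ p : K × C, σ p.1 = 1 → π p.2 = 1 → ∀ q, q * p = p * q := fun p h1 h2 q =>
    Prod.ext (mem_center_iff.1 (hσc h1) q.1) (mem_center_iff.1 (hπc h2) q.2)
  have hperf : ⁅P, P⁆ = P := by
    refine le_antisymm (commutator_le_self P) ?_
    refine commutator_le.2 fun a ha b hb => ?_
    obtain ⟨a', ha'⟩ := hfs a.1
    obtain ⟨b', hb'⟩ := hfs b.1
    have key : ∀ (x : K × C) (x' : ↥P), x ∈ Δ → f x' = x.1 → ∃ c, x = x'.1 * c ∧ ∀ q, q * c = c * q := by
      intro x x' hx e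
      refine ⟨x'.1⁻¹ * x, by group, hcen _ ?_ ?_⟩
      · have e' : x'.1.1 = x.1 := e
        simp [e']
      · have e' : x'.1.1 = x.1 := e
        have h1 : σ x'.1.1 = π x'.1.2 := (mem _).1 (hPΔ x'.2)
        rw [Prod.snd_mul, Prod.snd_inv, map_mul, map_inv, ← h1, e', (mem _).1 hx, inv_mul_cancel]
    obtain ⟨c, rfl, hc⟩ := key a a' ha ha'
    obtain ⟨c', rfl, hc'⟩ := key b b' hb hb'
    have e : a'.1 * c * (b'.1 * c') * (c⁻¹ * a'.1⁻¹) * (c'⁻¹ * b'.1⁻¹) = a'.1 * b'.1 * a'.1⁻¹ * b'.1⁻¹ := by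
      calc a'.1 * c * (b'.1 * c') * (c⁻¹ * a'.1⁻¹) * (c'⁻¹ * b'.1⁻¹)
          = a'.1 * (c * (b'.1 * c')) * c⁻¹ * a'.1⁻¹ * c'⁻¹ * b'.1⁻¹ := by group
        _ = a'.1 * b'.1 * (c' * a'.1⁻¹) * c'⁻¹ * b'.1⁻¹ := by rw [← hc]; group
        _ = a'.1 * b'.1 * a'.1⁻¹ * b'.1⁻¹ := by rw [← hc']; group
    rw [commutatorElement_def, mul_inv_rev, mul_inv_rev, e, ← commutatorElement_def]
    exact commutator_mem_commutator a'.2 b'.2
  have hstem : Cfsg.IsStemExtension τ := by
    refine ⟨hσ.comp hfs, fun p hp => mem_center_iff.2 fun q => Subtype.ext (hcen _ hp ?_ _), fun p _ => ?_⟩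
    · exact ((mem _).1 (hPΔ p.2)).symm.trans hp
    · have : (commutator ↥P).map P.subtype = P := by
        rw [_root_.commutator_def, map_commutator, ← MonoidHom.range_eq_map, range_subtype, hperf]
      obtain ⟨q, hq, e⟩ := this.ge p.2
      exact P.subtype_injective e ▸ hq
  haveI := hcyc τ hstem
  have hsq : ∀ p : τ.ker, p ^ 2 = 1 := fun p => by
    have h1 : σ p.1.1.1 = 1 := p.2
    have h3 : π p.1.1.2 = 1 := ((mem _).1 (hPΔ p.1.2)).symm.trans h1
    have e1 := congrArg Subtype.val (pow_card_eq_one' (x := (⟨_, h1⟩ : σ.ker)))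
    have e2 := congrArg Subtype.val (pow_card_eq_one' (x := (⟨_, h3⟩ : π.ker)))
    rw [h2] at e1
    rw [h2'] at e2
    exact Subtype.ext (Subtype.ext (Prod.ext e1 e2))
  have hker : Nat.card τ.ker ≤ 2 := by
    obtain ⟨g, hg⟩ := IsCyclic.exists_generator (α := τ.ker)
    rw [← orderOf_eq_card_of_forall_mem_zpowers hg]
    exact Nat.le_of_dvd (by norm_num) (orderOf_dvd_of_pow_eq_one (hsq g))
  have hcard : ∀ {X : Type max u v} [Group X] (χ : X →* Q), Function.Surjective χ →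
      Nat.card X = Nat.card Q * Nat.card χ.ker := fun χ hs => by
    rw [card_eq_card_quotient_mul_card_subgroup χ.ker,
      Nat.card_congr (QuotientGroup.quotientKerEquivOfSurjective χ hs).toEquiv]
  have hK2 : Nat.card K = Nat.card Q * 2 := by
    rw [← h2, card_eq_card_quotient_mul_card_subgroup σ.ker,
      Nat.card_congr (QuotientGroup.quotientKerEquivOfSurjective σ hσ).toEquiv]
  have hC2 : Nat.card C = Nat.card Q * 2 := by
    rw [← h2', card_eq_card_quotient_mul_card_subgroup π.ker,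
      Nat.card_congr (QuotientGroup.quotientKerEquivOfSurjective π hπ).toEquiv]
  have hle : Nat.card ↥P ≤ Nat.card Q * 2 := by
    rw [hcard τ (hσ.comp hfs)]
    exact Nat.mul_le_mul_left _ hker
  have hfb : Function.Bijective f := hfs.bijective_of_nat_card_le (hle.trans hK2.ge)
  have hhb : Function.Bijective h := hhs.bijective_of_nat_card_le (hle.trans hC2.ge)
  refine ⟨(MulEquiv.ofBijective f hfb).symm.trans (MulEquiv.ofBijective h hhb), fun x => ?_⟩
  set p := (MulEquiv.ofBijective f hfb).symm x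
  have hp : p.1.1 = x := (MulEquiv.ofBijective f hfb).apply_symm_apply x
  show π p.1.2 = σ x
  rw [← hp, (mem _).1 (hPΔ p.2)]

end Cfsg.Lib.FusionFrame
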