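import Cfsg.Agent.ThreeTransposition.DoubleCover.LiftM22
import Cfsg.Agent.ThreeTransposition.Factors

/-!
A double cover of a group of type M(22) with a class of lifts of the members among which no six commuting have product
one: the preimage of the group of a maximal commuting set is elementary of order `2 ^ 11`, its elements are products of
at most three lifts up to the central involution, and it is the only elementary subgroup of that order in its 2-groups.
-/

set_option autoImplicit false
set_option linter.style.haveILetI false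
set_option linter.unusedSectionVars false

namespace Cfsg.Lib.FusionFrame

open Cfsg Subgroup Cfsg.Lib.ThreeTr Cfsg.Lib.DoubleCover

universe u v

variable {C : Type u} [Group C] {Q : Type v} [Group Q]

/-- A double cover with a class of lifts. -/
structure Cover (π : C →* Q) (D : Set Q) (z : C) (L : Set C) : Prop where
  m22 : M22 D
  double : IsDouble π z
  z_ne : z ≠ 1
  z_ker : π z = 1
  conj : ∀ g : C, ∀ x ∈ L, g * x * g⁻¹ ∈ L
  proj : ∀ x ∈ L, π x ∈ D
  inj : Set.InjOn π L
  onto : ∀ q ∈ D, ∃ x ∈ L, π x = q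
  sq : ∀ x ∈ L, x * x = 1
  six : NoRel L 6

/-- The lifts over a set. -/
def liftsOver (π : C →* Q) (L : Set C) (B : Set Q) : Set C := {x | x ∈ L ∧ π x ∈ B}

/-- A word: at most three different lifts over the set. -/
structure IsWord (π : C →* Q) (L : Set C) (B : Set Q) (l : List C) : Prop where
  nodup : l.Nodup
  le : l.length ≤ 3
  mem : ∀ x ∈ l, x ∈ liftsOver π L B

namespace Cover

variable {π : C →* Q} {D : Set Q} {z : C} {L : Set C} (K : Cover π D z L) [Finite Q]
include K

theorem lift_commute {x y : C} (hx : x ∈ L) (hy : y ∈ L) (h : Commute (π x) (π y)) : Commute x y := by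
  have e := K.inj (K.conj y x hx) hx (by rw [map_mul, map_mul, map_inv, h.symm.eq, mul_inv_cancel_right])
  exact (mul_inv_eq_iff_eq_mul.1 e).symm

theorem three_set : IsThreeTranspositionSet L := by
  have hE := K.m22.cls.1
  refine ⟨fun x hx => orderOf_eq_prime (p := 2) (by rw [pow_two, K.sq x hx]) fun e => ?_, fun x hx y hy => ?_⟩
  · have := hE.1 _ (K.proj x hx)
    rw [e, map_one, orderOf_one] at this
    norm_num at this
  by_cases hc : Commute (π x) (π y)
  · exact Or.inl ((commute_iff_sq (K.sq x hx) (K.sq y hy)).1 (K.lift_commute hx hy hc))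
  · refine Or.inr ?_
    have ex : x⁻¹ = x := inv_eq_of_mul_eq_one_right (K.sq x hx)
    have ey : y⁻¹ = y := inv_eq_of_mul_eq_one_right (K.sq y hy)
    have e : x * y * x = y * x * y := by
      have h1 := K.conj x y hy
      have h2 := K.conj y x hx
      rw [ex] at h1
      rw [ey] at h2
      exact K.inj h1 h2 (by simp only [map_mul]; exact braid hE (K.proj x hx) (K.proj y hy) hc)
    calc (x * y) ^ 3 = x * y * x * (y * x * y) := by rw [pow_succ, pow_two]; simp only [mul_assoc]
      _ = y * x * y * (y * x * y) := by rw [e]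
      _ = y * x * (y * y) * (x * y) := by simp only [mul_assoc]
      _ = y * (x * x) * y := by rw [K.sq y hy, mul_one]; simp only [mul_assoc]
      _ = 1 := by rw [K.sq x hx, mul_one, K.sq y hy]

theorem four : NoRel L 4 := by
  intro l hl hnd hm hc hp
  refine four_noRel K.m22.cls.1 K.m22.twin (l.map π) (by simpa using hl)
    (hnd.map_on fun x hx y hy e => K.inj (hm x hx) (hm y hy) e) ?_ ?_ (by rw [← map_list_prod, hp, map_one])
  · intro a ha
    obtain ⟨x, hx, rfl⟩ := List.mem_map.1 ha
    exact K.proj x (hm x hx)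
  · intro a ha b hb
    obtain ⟨x, hx, rfl⟩ := List.mem_map.1 ha
    obtain ⟨y, hy, rfl⟩ := List.mem_map.1 hb
    exact (hc x hx y hy).map π

theorem noRel {i : ℕ} (h1 : 0 < i) (h2 : i ≤ 3) : NoRel L (i + i) := by
  obtain rfl | rfl | rfl : i = 1 ∨ i = 2 ∨ i = 3 := by omega
  exacts [two_noRel K.three_set, K.four, K.six]

section Clique

variable {B : Set Q} (hB : IsMaxClique D B)
include hB

theorem lifts_comm {x y : C} (hx : x ∈ liftsOver π L B) (hy : y ∈ liftsOver π L B) : Commute x y :=
  K.lift_commute hx.1 hy.1 (hB.comm _ hx.2 _ hy.2)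

theorem ncard_lifts : (liftsOver π L B).ncard = 22 := by
  rw [← hB.ncard_eq K.m22]
  refine Set.ncard_congr (fun x _ => π x) (fun x hx => hx.2) (fun x y hx hy e => K.inj hx.1 hy.1 e) fun q hq => ?_
  obtain ⟨x, hx, rfl⟩ := K.onto q (hB.sub hq)
  exact ⟨x, ⟨hx, hq⟩, rfl⟩

theorem word_comm {l : List C} (hl : IsWord π L B l) : ∀ a ∈ l, ∀ b ∈ l, Commute a b := fun a ha b hb =>
  K.lifts_comm hB (hl.mem a ha) (hl.mem b hb)

theorem map_word {l : List C} (hl : IsWord π L B l) :
    (l.map π).Nodup ∧ (∀ a ∈ l.map π, a ∈ D) ∧ (∀ a ∈ l.map π, ∀ b ∈ l.map π, Commute a b) := by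
  refine ⟨hl.nodup.map_on fun x hx y hy e => K.inj (hl.mem x hx).1 (hl.mem y hy).1 e, ?_, ?_⟩
  · intro a ha
    obtain ⟨x, hx, rfl⟩ := List.mem_map.1 ha
    exact K.proj x (hl.mem x hx).1
  · intro a ha b hb
    obtain ⟨x, hx, rfl⟩ := List.mem_map.1 ha
    obtain ⟨y, hy, rfl⟩ := List.mem_map.1 hb
    exact (K.word_comm hB hl x hx y hy).map π

theorem word_ne {l : List C} (hl : IsWord π L B l) (h1 : 1 ≤ l.length) : π l.prod ≠ 1 := by
  intro e
  obtain ⟨hn, hD, hc⟩ := K.map_word hB hl
  rw [map_list_prod] at e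
  have hE := K.m22.cls.1
  match l, h1, hl.le with
  | [a], _, _ =>
    have := hE.1 (π a) (hD _ (by simp))
    simp only [List.map_cons, List.map_nil, List.prod_singleton] at e
    rw [e, orderOf_one] at this
    norm_num at this
  | [a, b], _, _ => exact two_noRel hE [π a, π b] rfl hn hD hc e
  | [a, b, c], _, _ =>
    have hn2 : [π a, π b].Nodup := hn.sublist (by simp)
    have e1 : π a * π b = π c := by
      simp only [List.map_cons, List.map_nil, List.prod_cons, List.prod_nil, mul_one, ← mul_assoc] at e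
      rw [eq_inv_of_mul_eq_one_left e, inv_eq hE (hD _ (by simp))]
    have := K.m22.length_unique (l := [π a, π b]) (l' := [π c]) hn2 (fun y hy => hD y (by simp at hy ⊢; tauto))
      (fun y hy w hw => hc y (by simp at hy ⊢; tauto) w (by simp at hw ⊢; tauto)) (by simp) (by simp)
      (List.nodup_singleton _) (fun y hy => hD y (by simp at hy ⊢; tauto))
      (fun y hy w hw => hc y (by simp at hy ⊢; tauto) w (by simp at hw ⊢; tauto)) (by simp) (by simp)
      (by simpa using e1)
    simp at this

theorem word_length {l l' : List C} (hl : IsWord π L B l) (hl' : IsWord π L B l') (e : π l.prod = π l'.prod) :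
    l.length = l'.length := by
  by_cases h1 : l.length = 0
  · rw [List.length_eq_zero_iff] at h1
    subst h1
    by_contra h
    exact K.word_ne hB hl' (by simp at h; omega) (by rw [← e]; simp)
  by_cases h2 : l'.length = 0
  · rw [List.length_eq_zero_iff] at h2
    subst h2
    exact absurd (by rw [e]; simp) (K.word_ne hB hl (by omega))
  obtain ⟨a1, a2, a3⟩ := K.map_word hB hl
  obtain ⟨b1, b2, b3⟩ := K.map_word hB hl'
  have := K.m22.length_unique a1 a2 a3 (by simp; omega) (by simpa using hl.le) b1 b2 b3 (by simp; omega)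
    (by simpa using hl'.le) (by rw [← map_list_prod, ← map_list_prod, e])
  simpa using this

theorem word_inj {l l' : List C} (hl : IsWord π L B l) (hl' : IsWord π L B l') (e : l.prod = l'.prod) :
    ∀ x, x ∈ l ↔ x ∈ l' :=
  factors_unique K.three_set l.length hl.le (fun _ h1 h2 => K.noRel h1 (h2.trans hl.le)) l l' rfl
    (K.word_length hB hl hl' (congrArg π e)).symm hl.nodup hl'.nodup (fun a ha => (hl.mem a ha).1)
    (fun a ha => (hl'.mem a ha).1) (K.word_comm hB hl) (K.word_comm hB hl') e

theorem word_shift_ne {l l' : List C} (hl : IsWord π L B l) (hl' : IsWord π L B l') (h2 : l.length ≤ 2) :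
    l.prod ≠ z * l'.prod := by
  intro e
  have eπ : π l.prod = π l'.prod := by rw [e, map_mul, K.z_ker, one_mul]
  have hlen := K.word_length hB hl hl' eπ
  obtain ⟨a1, a2, a3⟩ := K.map_word hB hl
  obtain ⟨b1, b2, b3⟩ := K.map_word hB hl'
  refine K.z_ne (mul_eq_right.1 (e.symm.trans ?_))
  match l, l', h2, hlen with
  | [], [], _, _ => rfl
  | [a], [b], _, _ =>
    simp only [List.prod_singleton] at eπ ⊢
    exact K.inj (hl.mem a (by simp)).1 (hl'.mem b (by simp)).1 eπ
  | [a, b], [c, d], _, _ =>
    have hu := pair_unique K.m22.cls.1 K.m22.twin (l := [a, b].map π) (l' := [c, d].map π) rfl rfl a1 b1 a2 b2 a3 b3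
      (by rw [← map_list_prod, ← map_list_prod, eπ])
    have hiff : ∀ x, x ∈ [a, b] → x ∈ [c, d] := fun x hx => by
      obtain ⟨y, hy, ey⟩ := List.mem_map.1 ((hu (π x)).1 (List.mem_map_of_mem hx))
      rwa [← K.inj (hl'.mem y hy).1 (hl.mem x hx).1 ey]
    have hab : a ≠ b := by simpa using hl.nodup
    have ha := hiff a (by simp)
    have hb := hiff b (by simp)
    simp only [List.mem_cons, List.not_mem_nil, or_false] at ha hb
    rcases ha with rfl | rfl <;> rcases hb with rfl | rfl
    exacts [absurd rfl hab, rfl, by simp [(K.word_comm hB hl a (by simp) b (by simp)).eq], absurd rfl hab]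

/-- `z` times a product of three lifts is one. -/
theorem word_shift {l : List C} (hl : IsWord π L B l) (h3 : l.length = 3) :
    ∃ l' : List C, IsWord π L B l' ∧ l'.length = 3 ∧ l'.prod = z * l.prod := by
  obtain ⟨hn, hD, hc⟩ := K.map_word hB hl
  obtain ⟨a, b, c, rfl⟩ := List.length_eq_three.1 h3
  simp only [List.map_cons, List.map_nil] at hn hD hc
  have hn' := hn
  simp only [List.nodup_cons, List.mem_cons, List.not_mem_nil, or_false, not_or] at hn'
  obtain ⟨p, q, r, hnd, hcomm, hmem, hprod, -⟩ := m22_hexad K.m22.cls K.m22.prim K.m22.twin K.m22.type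
    (hD (π a) (by simp)) (hD (π b) (by simp)) (hD (π c) (by simp)) hn'.1.1 hn'.1.2 hn'.2.1
    (hc _ (by simp) _ (by simp)) (hc _ (by simp) _ (by simp)) (hc _ (by simp) _ (by simp))
  obtain ⟨p', hp', rfl⟩ := K.onto p (hmem p (by simp))
  obtain ⟨q', hq', rfl⟩ := K.onto q (hmem q (by simp))
  obtain ⟨r', hr', rfl⟩ := K.onto r (hmem r (by simp))
  have ha := (hl.mem a (by simp)).1
  have hb := (hl.mem b (by simp)).1
  have hc' := (hl.mem c (by simp)).1
  have h6 : ∀ x ∈ [a, b, c, p', q', r'], x ∈ L := by
    intro x hx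
    simp only [List.mem_cons, List.not_mem_nil, or_false] at hx
    rcases hx with rfl | rfl | rfl | rfl | rfl | rfl <;> assumption
  have hc6 : ∀ x ∈ [a, b, c, p', q', r'], ∀ y ∈ [a, b, c, p', q', r'], Commute x y := fun x hx y hy =>
    K.lift_commute (h6 x hx) (h6 y hy) (hcomm (π x) (List.mem_map_of_mem (f := π) hx) (π y)
      (List.mem_map_of_mem (f := π) hy))
  have hn6 : [a, b, c, p', q', r'].Nodup := List.Nodup.of_map π (by simpa using hnd)
  have hprod' : [a, b, c, p', q', r'].prod = z := (K.double.ker _ (by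
    rw [map_list_prod]; simpa using hprod)).resolve_left (K.six _ rfl hn6 h6 hc6)
  have e1 : [a, b, c].prod * [a, b, c].prod = 1 := prod_mul_self K.three_set _
    (fun x hx => h6 x (List.mem_append_left [p', q', r'] hx))
    (fun x hx y hy => hc6 x (List.mem_append_left [p', q', r'] hx) y (List.mem_append_left [p', q', r'] hy))
  have e2 : [a, b, c].prod * [p', q', r'].prod = z := by rw [← List.prod_append]; exact hprod'
  have hr3 : ∀ {x}, x ∈ [p', q', r'] → x ∈ [a, b, c, p', q', r'] := fun hx => List.mem_append_right [a, b, c] hx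
  have hr3' : ∀ {x}, x ∈ [p', q', r'].map π → x ∈ [π a, π b, π c, π p', π q', π r'] := fun hx =>
    List.mem_append_right [π a, π b, π c] hx
  have habc : π [a, b, c].prod = π [p', q', r'].prod := by
    rw [eq_inv_mul_iff_mul_eq.2 e2, map_mul, K.z_ker, mul_one, inv_eq_of_mul_eq_one_right e1]
  refine ⟨[p', q', r'], ⟨hn6.sublist (List.sublist_append_right [a, b, c] [p', q', r']), le_rfl, fun x hx =>
    ⟨h6 x (hr3 hx), ?_⟩⟩, rfl, ?_⟩
  · refine hB.max _ (K.proj x (h6 x (hr3 hx))) fun f hf => ?_
    have hfc : Commute f ([p', q', r'].map π).prod := by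
      rw [← map_list_prod, ← habc, map_list_prod]
      exact Commute.list_prod_right _ _ fun w hw => by
        obtain ⟨y, hy, rfl⟩ := List.mem_map.1 hw
        exact hB.comm f hf _ (hl.mem y hy).2
    refine (commute_of_commute_prod K.m22.cls.1 (l := [p', q', r'].map π) (by simp) ?_ ?_ ?_ (hB.sub hf) hfc _
      (List.mem_map_of_mem hx)).symm
    · exact hnd.sublist (List.sublist_append_right [π a, π b, π c] _)
    · intro w hw; exact hmem w (hr3' hw)
    · intro w hw v hv; exact hcomm w (hr3' hw) v (hr3' hv)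
  · rw [(K.double.central _).eq, eq_inv_mul_iff_mul_eq.2 e2, inv_eq_of_mul_eq_one_right e1]

theorem word_mem {l : List C} (hl : IsWord π L B l) : l.prod ∈ (closure B).comap π :=
  list_prod_mem fun x hx => mem_comap.2 (subset_closure (hl.mem x hx).2)

theorem word_cover_map {q : Q} (hq : q ∈ closure B) : ∃ l, IsWord π L B l ∧ π l.prod = q := by
  classical
  have hE := K.m22.cls.1
  obtain ⟨-, hcm⟩ := hB.closure_elementary K.m22
  have step : ∀ q b, (∃ l, IsWord π L B l ∧ π l.prod = q) → b ∈ B → ∃ l, IsWord π L B l ∧ π l.prod = q * b := by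
    rintro _ b ⟨l, hl, rfl⟩ hb
    obtain ⟨x, hx, rfl⟩ := K.onto b (hB.sub hb)
    have hxT : x ∈ liftsOver π L B := ⟨hx, hb⟩
    have hc : Commute x l.prod := Commute.list_prod_right _ _ fun y hy => K.lifts_comm hB hxT (hl.mem y hy)
    by_cases hxl : x ∈ l
    · refine ⟨l.erase x, ⟨hl.nodup.erase x, (List.length_erase_le).trans hl.le,
        fun y hy => hl.mem y (List.mem_of_mem_erase hy)⟩, ?_⟩
      have e := List.prod_erase_of_comm hxl fun a ha b hb => (K.word_comm hB hl a ha b hb).eq
      have hce : Commute x (l.erase x).prod := Commute.list_prod_right _ _ fun y hy =>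
        K.lifts_comm hB hxT (hl.mem y (List.mem_of_mem_erase hy))
      rw [← map_mul, ← e, hce.eq, mul_assoc, K.sq x hx, mul_one]
    by_cases h2 : l.length ≤ 2
    · refine ⟨x :: l, ⟨List.nodup_cons.2 ⟨hxl, hl.nodup⟩, by simp; omega, fun y hy => ?_⟩, ?_⟩
      · rcases List.mem_cons.1 hy with rfl | hy
        exacts [hxT, hl.mem y hy]
      · rw [List.prod_cons, hc.eq, map_mul]
    obtain ⟨a, a', a'', rfl⟩ := List.length_eq_three.1 (show l.length = 3 by have := hl.le; omega)
    have hmem : ∀ u ∈ [a, a', a'', x], u ∈ liftsOver π L B := fun u hu => by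
      rcases List.mem_append.1 (show u ∈ [a, a', a''] ++ [x] from hu) with h | h
      · exact hl.mem u h
      · exact List.mem_singleton.1 h ▸ hxT
    have hn : [a, a', a'', x].Nodup := List.nodup_append.2 ⟨hl.nodup, List.nodup_singleton x,
      fun u hu w hw => by rw [List.mem_singleton.1 hw]; exact fun e => hxl (e ▸ hu)⟩
    obtain ⟨m, hm, hm1, hm3, hmB, hmp⟩ := hB.four_in K.m22 (a := π a) (b := π a') (c := π a'') (e := π x)
      (hn.map_on (f := π) fun u hu w hw e => K.inj (hmem u hu).1 (hmem w hw).1 e) (fun y hy => by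
      obtain ⟨u, hu, rfl⟩ := List.mem_map.1 (show y ∈ [a, a', a'', x].map π from hy)
      exact (hmem u hu).2)
    choose f hf hf' using fun q (hq : q ∈ B) => K.onto q (hB.sub hq)
    refine ⟨m.pmap f hmB, ⟨hm.pmap fun u hu w hw e => by rw [← hf' u hu, e, hf' w hw],
      by rw [List.length_pmap]; exact hm3, fun y hy => ?_⟩, ?_⟩
    · obtain ⟨u, hu, rfl⟩ := List.mem_pmap.1 hy
      exact ⟨hf u (hmB u hu), by rw [hf']; exact hmB u hu⟩
    · rw [map_list_prod, List.map_pmap]
      have e : m.pmap (fun a h => π (f a h)) hmB = m := by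
        rw [List.pmap_congr_left (g := fun a (_ : a ∈ B) => a) (H₂ := hmB) m (fun a _ h1 _ => hf' a h1)]
        simp
      rw [e, hmp]
      simp [mul_assoc]
  induction hq using closure_induction_right with
  | one => exact ⟨[], ⟨List.nodup_nil, by simp, by simp⟩, by simp⟩
  | mul_right q hq b hb ih => exact step q b ih hb
  | mul_inv_cancel q hq b hb ih => rw [inv_eq hE (hB.sub hb)]; exact step q b ih hb

theorem word_cover {x : C} (hx : x ∈ (closure B).comap π) :
    ∃ l, IsWord π L B l ∧ (x = l.prod ∨ x = z * l.prod) := by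
  obtain ⟨l, hl, e⟩ := K.word_cover_map hB hx
  exact ⟨l, hl, lift_cases K.double e.symm⟩

theorem cliqueGroup_elementary : (∀ x ∈ (closure B).comap π, x * x = 1) ∧
    ∀ x ∈ (closure B).comap π, ∀ y ∈ (closure B).comap π, Commute x y := by
  have h1 : ∀ {l}, IsWord π L B l → l.prod * l.prod = 1 := fun {l} hl =>
    prod_mul_self K.three_set l (fun a ha => (hl.mem a ha).1) (K.word_comm hB hl)
  have h2 : ∀ {l l'}, IsWord π L B l → IsWord π L B l' → Commute l.prod l'.prod := fun {l l'} hl hl' =>
    Commute.list_prod_left _ _ fun a ha => Commute.list_prod_right _ _ fun b hb =>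
      K.lifts_comm hB (hl.mem a ha) (hl'.mem b hb)
  refine ⟨fun x hx => ?_, fun x hx y hy => ?_⟩
  · obtain ⟨l, hl, rfl | rfl⟩ := K.word_cover hB hx
    · exact h1 hl
    · rw [(K.double.central _).symm.mul_mul_mul_comm, K.double.sq, one_mul, h1 hl]
  · obtain ⟨l, hl, rfl | rfl⟩ := K.word_cover hB hx <;> obtain ⟨l', hl', rfl | rfl⟩ := K.word_cover hB hy
    exacts [h2 hl hl', (K.double.central _).symm.mul_right (h2 hl hl'), (K.double.central _).mul_left (h2 hl hl'),
      ((K.double.central _).mul_left ((K.double.central _).symm.mul_right (h2 hl hl')))]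

end Clique

end Cover

end Cfsg.Lib.FusionFrame
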