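import Cfsg.Agent.FusionFrame.AutCard

/-!
An elementary abelian group of order `2 ^ 11` framed by a point `z` and twenty-two further points `T`: a group of
automorphisms whose stabiliser of `z` has the orbits `T`, `z T`, pairs, `z` times pairs, and triples either fixes `z` or
has an orbit of twenty-three points through it.
-/

set_option autoImplicit false
set_option linter.style.haveILetI false
set_option linter.unusedSectionVars false

namespace Cfsg.Lib.FusionFrame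

variable {E : Type*} [CommGroup E]

/-- Products of two different points. -/
def pairProds (T : Set E) : Set E := {x | ∃ a ∈ T, ∃ b ∈ T, a ≠ b ∧ a * b = x}

/-- Products of three different points. -/
def tripleProds (T : Set E) : Set E :=
  {x | ∃ a ∈ T, ∃ b ∈ T, ∃ c ∈ T, a ≠ b ∧ a ≠ c ∧ b ≠ c ∧ a * b * c = x}

/-- The translate by `z`. -/
def shift (z : E) (T : Set E) : Set E := (fun x => z * x) '' T

theorem pairProds_shift {z : E} (hz : z * z = 1) (T : Set E) : pairProds (shift z T) = pairProds T := by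
  ext x
  constructor
  · rintro ⟨_, ⟨a, ha, rfl⟩, _, ⟨b, hb, rfl⟩, hne, rfl⟩
    exact ⟨a, ha, b, hb, fun e => hne (e ▸ rfl), by rw [mul_mul_mul_comm, hz, one_mul]⟩
  · rintro ⟨a, ha, b, hb, hne, rfl⟩
    exact ⟨_, ⟨a, ha, rfl⟩, _, ⟨b, hb, rfl⟩, fun e => hne (mul_left_cancel e), by
      rw [mul_mul_mul_comm, hz, one_mul]⟩

theorem mem_shift_iff {z : E} (hz : z * z = 1) {T : Set E} {x : E} : x ∈ shift z T ↔ z * x ∈ T := by
  constructor
  · rintro ⟨a, ha, rfl⟩
    rwa [← mul_assoc, hz, one_mul]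
  · intro h
    exact ⟨z * x, h, by show z * (z * x) = x; rw [← mul_assoc, hz, one_mul]⟩

theorem shift_shift {z : E} (hz : z * z = 1) (T : Set E) : shift z (shift z T) = T := by
  ext x
  rw [mem_shift_iff hz, mem_shift_iff hz, ← mul_assoc, hz, one_mul]

/-- The frame. -/
structure Frame (z : E) (T : Set E) (Γ : Subgroup (MulAut E)) : Prop where
  sq : ∀ x : E, x * x = 1
  order : Nat.card E = 2 ^ 11
  points : T.ncard = 22
  pairs : (pairProds T).ncard = 231
  triples : (tripleProds T).ncard = 1540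
  z_ne : z ≠ 1
  one_notMem : (1 : E) ∉ T ∧ (1 : E) ∉ shift z T ∧ (1 : E) ∉ pairProds T ∧ (1 : E) ∉ shift z (pairProds T) ∧
    (1 : E) ∉ tripleProds T
  z_notMem : z ∉ T ∧ z ∉ shift z T ∧ z ∉ pairProds T ∧ z ∉ shift z (pairProds T) ∧ z ∉ tripleProds T
  point_shift : Disjoint T (shift z T)
  pair_shift : Disjoint (pairProds T) (shift z (pairProds T))
  point_pair : Disjoint (T ∪ shift z T) (pairProds T ∪ shift z (pairProds T))
  low_triple : Disjoint (T ∪ shift z T ∪ (pairProds T ∪ shift z (pairProds T))) (tripleProds T)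
  cover : ∀ x : E, x = 1 ∨ x = z ∨ x ∈ T ∨ x ∈ shift z T ∨ x ∈ pairProds T ∨ x ∈ shift z (pairProds T) ∨
    x ∈ tripleProds T
  triple_shift : ∀ x ∈ tripleProds T, z * x ∈ tripleProds T
  stab : ∀ γ ∈ Γ, γ z = z → ∀ x ∈ T, γ x ∈ T
  trans_point : ∀ a ∈ T, ∀ b ∈ T, ∃ γ ∈ Γ, γ z = z ∧ γ a = b
  trans_pair : ∀ a ∈ pairProds T, ∀ b ∈ pairProds T, ∃ γ ∈ Γ, γ z = z ∧ γ a = b
  trans_triple : ∀ a ∈ tripleProds T, ∀ b ∈ tripleProds T, ∃ γ ∈ Γ, γ z = z ∧ γ a = b

variable {z : E} {T : Set E} {Γ : Subgroup (MulAut E)}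

/-- `x` is in relation `X` with `y`: some automorphism of the group moves `z` and a member of `X` to `y` and `x`. -/
def Rel (z : E) (Γ : Subgroup (MulAut E)) (X : Set E) (y x : E) : Prop :=
  ∃ γ ∈ Γ, γ z = y ∧ ∃ u ∈ X, γ u = x

/-- Sent to itself by the stabiliser of `z`. -/
def Stable (z : E) (Γ : Subgroup (MulAut E)) (X : Set E) : Prop := ∀ γ ∈ Γ, γ z = z → ∀ x ∈ X, γ x ∈ X

/-- The stabiliser of `z` is transitive. -/
def Trans (z : E) (Γ : Subgroup (MulAut E)) (X : Set E) : Prop :=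
  ∀ a ∈ X, ∀ b ∈ X, ∃ γ ∈ Γ, γ z = z ∧ γ a = b

/-- The orbit of `z`. -/
def orbitSet (z : E) (Γ : Subgroup (MulAut E)) : Set E := {x | ∃ γ ∈ Γ, γ z = x}

theorem Rel.map {X : Set E} {y x : E} (h : Rel z Γ X y x) {δ : MulAut E} (hδ : δ ∈ Γ) :
    Rel z Γ X (δ y) (δ x) := by
  obtain ⟨γ, hγ, rfl, u, hu, rfl⟩ := h
  exact ⟨δ * γ, mul_mem hδ hγ, rfl, u, hu, rfl⟩

theorem symm_apply_of {γ : MulAut E} {a b : E} (h : γ a = b) : γ⁻¹ b = a := by
  subst h
  exact γ.symm_apply_apply a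

theorem rel_iff {X : Set E} (hX : Stable z Γ X) {γ : MulAut E} (hγ : γ ∈ Γ) {x : E} :
    Rel z Γ X (γ z) x ↔ ∃ u ∈ X, γ u = x := by
  refine ⟨?_, fun h => ⟨γ, hγ, rfl, h⟩⟩
  rintro ⟨δ, hδ, hz, u, hu, rfl⟩
  refine ⟨(γ⁻¹ * δ) u, hX _ (mul_mem (inv_mem hγ) hδ) ?_ u hu, γ.apply_symm_apply (δ u)⟩
  show γ⁻¹ (δ z) = z
  exact symm_apply_of hz.symm

theorem rel_base {X : Set E} (hX : Stable z Γ X) {x : E} : Rel z Γ X z x ↔ x ∈ X := by
  refine (rel_iff hX (one_mem Γ)).trans ⟨?_, fun h => ⟨x, h, rfl⟩⟩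
  rintro ⟨u, hu, rfl⟩
  exact hu

theorem Rel.left_mem {X : Set E} {y x : E} (h : Rel z Γ X y x) : y ∈ orbitSet z Γ :=
  let ⟨γ, hγ, e, _⟩ := h
  ⟨γ, hγ, e⟩

theorem orbit_closed {x : E} (hx : x ∈ orbitSet z Γ) {δ : MulAut E} (hδ : δ ∈ Γ) : δ x ∈ orbitSet z Γ := by
  obtain ⟨γ, hγ, rfl⟩ := hx
  exact ⟨δ * γ, mul_mem hδ hγ, rfl⟩

theorem orbit_stable : Stable z Γ (orbitSet z Γ) := fun _ hγ _ _ hx => orbit_closed hx hγ

theorem rel_disjoint {X Y : Set E} (hX : Stable z Γ X) (hXY : Disjoint X Y) {y x : E} (h : Rel z Γ X y x) :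
    ¬ Rel z Γ Y y x := by
  rintro ⟨γ, hγ, rfl, v, hv, rfl⟩
  obtain ⟨u, hu, e⟩ := (rel_iff hX hγ).1 h
  exact Set.disjoint_left.1 hXY (γ.injective e ▸ hu) hv

theorem rel_ne {X : Set E} (hz : z ∉ X) {y x : E} (h : Rel z Γ X y x) : x ≠ y := by
  obtain ⟨γ, hγ, rfl, u, hu, rfl⟩ := h
  exact fun e => hz (γ.injective e ▸ hu)

/-- A set is inside or apart. -/
theorem inside_or_apart {X W : Set E} (hX : Trans z Γ X) (hW : Stable z Γ W) : X ⊆ W ∨ Disjoint X W := by
  by_cases h : ∃ a ∈ X, a ∈ W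
  · obtain ⟨a, ha, haW⟩ := h
    refine Or.inl fun b hb => ?_
    obtain ⟨γ, hγ, hz, rfl⟩ := hX a ha b hb
    exact hW γ hγ hz a haW
  · push Not at h
    exact Or.inr (Set.disjoint_left.2 h)

theorem inter_card_cases {X W : Set E} (hX : Trans z Γ X) (hW : Stable z Γ W) :
    (X ⊆ W ∧ (W ∩ X).ncard = X.ncard) ∨ (Disjoint X W ∧ (W ∩ X).ncard = 0) := by
  rcases inside_or_apart hX hW with h | h
  · exact Or.inl ⟨h, by rw [Set.inter_eq_right.2 h]⟩
  · exact Or.inr ⟨h, by rw [Set.inter_comm, Set.disjoint_iff_inter_eq_empty.1 h, Set.ncard_empty]⟩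

variable [Finite E]

/-- Out-degree and in-degree at a point agree. -/
theorem in_card {X : Set E} (hX : Stable z Γ X) (hXO : X ⊆ orbitSet z Γ) :
    {y | Rel z Γ X y z}.ncard = X.ncard := by
  classical
  haveI := Fintype.ofFinite E
  set O := Finset.univ.filter (· ∈ orbitSet z Γ) with hO
  set P := (Finset.univ : Finset (E × E)).filter fun p => Rel z Γ X p.1 p.2 with hP
  have hout : ∀ y ∈ O, (P.filter fun p => p.1 = y).card = X.ncard := by
    intro y hy
    obtain ⟨γ, hγ, rfl⟩ := (Finset.mem_filter.1 hy).2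
    rw [← Set.ncard_coe_finset]
    refine (Set.ncard_congr (fun u _ => (γ z, γ u)) (fun u hu => ?_) (fun u v _ _ e => γ.injective
      (congrArg Prod.snd e)) fun p hp => ?_).symm
    · simp only [Finset.coe_filter, hP, Finset.mem_univ, true_and, Set.mem_ofPred_eq, Finset.mem_filter]
      exact ⟨⟨γ, hγ, rfl, u, hu, rfl⟩, trivial⟩
    · simp only [Finset.coe_filter, hP, Finset.mem_univ, true_and, Set.mem_ofPred_eq, Finset.mem_filter] at hp
      obtain ⟨h1, h2⟩ := hp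
      rw [h2] at h1
      obtain ⟨u, hu, e⟩ := (rel_iff hX hγ).1 h1
      exact ⟨u, hu, Prod.ext h2.symm e⟩
  have hin : ∀ x ∈ O, (P.filter fun p => p.2 = x).card = {y | Rel z Γ X y z}.ncard := by
    intro x hx
    obtain ⟨γ, hγ, rfl⟩ := (Finset.mem_filter.1 hx).2
    rw [← Set.ncard_coe_finset]
    refine (Set.ncard_congr (fun u _ => (γ u, γ z)) (fun u hu => ?_) (fun u v _ _ e => γ.injective
      (congrArg Prod.fst e)) fun p hp => ?_).symm
    · simp only [Finset.coe_filter, hP, Finset.mem_univ, true_and, Set.mem_ofPred_eq, Finset.mem_filter]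
      exact ⟨(show Rel z Γ X u z from hu).map hγ, trivial⟩
    · simp only [Finset.coe_filter, hP, Finset.mem_univ, true_and, Set.mem_ofPred_eq, Finset.mem_filter] at hp
      obtain ⟨h1, h2⟩ := hp
      rw [h2] at h1
      have h3 := h1.map (inv_mem hγ)
      rw [symm_apply_of rfl] at h3
      exact ⟨γ⁻¹ p.1, h3, Prod.ext (γ.apply_symm_apply p.1) h2.symm⟩
  have e1 := Finset.card_eq_sum_card_fiberwise (s := P) (t := O) (f := Prod.fst) fun p hp => by
    simp only [hP, Finset.coe_filter, Finset.mem_univ, true_and, Set.mem_ofPred_eq] at hp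
    simp only [hO, Finset.coe_filter, Finset.mem_univ, true_and, Set.mem_ofPred_eq]
    exact hp.left_mem
  have e2 := Finset.card_eq_sum_card_fiberwise (s := P) (t := O) (f := Prod.snd) fun p hp => by
    simp only [hP, Finset.coe_filter, Finset.mem_univ, true_and, Set.mem_ofPred_eq] at hp
    simp only [hO, Finset.coe_filter, Finset.mem_univ, true_and, Set.mem_ofPred_eq]
    obtain ⟨γ, hγ, -, u, hu, e⟩ := hp
    exact e ▸ orbit_closed (hXO hu) hγ
  rw [Finset.sum_congr rfl hout, Finset.sum_const, smul_eq_mul] at e1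
  rw [Finset.sum_congr rfl hin, Finset.sum_const, smul_eq_mul] at e2
  have hpos : 0 < O.card := Finset.card_pos.2 ⟨z, by
    simp only [hO, Finset.mem_filter, Finset.mem_univ, true_and]; exact ⟨1, one_mem _, rfl⟩⟩
  exact Nat.eq_of_mul_eq_mul_left hpos (e2.symm.trans e1)

namespace Frame

variable (F : Frame z T Γ)
include F

theorem hz : z * z = 1 := F.sq z

theorem mul_self_left (x y : E) : x * (x * y) = y := by rw [← mul_assoc, F.sq, one_mul]

theorem stable_point : Stable z Γ T := F.stab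

theorem stable_shift : Stable z Γ (shift z T) := by
  rintro γ hγ hz _ ⟨a, ha, rfl⟩
  exact ⟨γ a, F.stab γ hγ hz a ha, by rw [map_mul, hz]⟩

theorem trans_shift {X : Set E} (hX : Trans z Γ X) : Trans z Γ (shift z X) := by
  rintro _ ⟨a, ha, rfl⟩ _ ⟨b, hb, rfl⟩
  obtain ⟨γ, hγ, hz, rfl⟩ := hX a ha b hb
  exact ⟨γ, hγ, hz, by rw [map_mul, hz]⟩

theorem card_shift (X : Set E) : (shift z X).ncard = X.ncard :=
  Set.ncard_image_of_injective _ (mul_right_injective z)

/-- The size of a stable set avoiding `1` and `z`. -/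
theorem split {W : Set E} (h1 : (1 : E) ∉ W) (hzW : z ∉ W) :
    W.ncard = (W ∩ T).ncard + (W ∩ shift z T).ncard + ((W ∩ pairProds T).ncard +
      (W ∩ shift z (pairProds T)).ncard) + (W ∩ tripleProds T).ncard := by
  have hW : W = W ∩ (T ∪ shift z T ∪ (pairProds T ∪ shift z (pairProds T)) ∪ tripleProds T) := by
    refine (Set.inter_eq_left.2 fun x hx => ?_).symm
    rcases F.cover x with rfl | rfl | h | h | h | h | h
    exacts [absurd hx h1, absurd hx hzW, .inl (.inl (.inl h)), .inl (.inl (.inr h)), .inl (.inr (.inl h)),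
      .inl (.inr (.inr h)), .inr h]
  conv_lhs => rw [hW]
  have d : ∀ {A B : Set E}, Disjoint A B → (W ∩ (A ∪ B)).ncard = (W ∩ A).ncard + (W ∩ B).ncard := fun {A B} h => by
    rw [Set.inter_union_distrib_left]
    exact Set.ncard_union_eq (h.mono Set.inter_subset_right Set.inter_subset_right)
  rw [d F.low_triple, d F.point_pair, d F.point_shift, d F.pair_shift]

theorem one_notMem_orbit : (1 : E) ∉ orbitSet z Γ := fun ⟨γ, _, e⟩ => F.z_ne (γ.injective (e.trans (map_one γ).symm))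

theorem z_mem_orbit : z ∈ orbitSet z Γ := ⟨1, one_mem _, rfl⟩

theorem swap_triples : tripleProds (shift z T) = tripleProds T := by
  have key : ∀ a b c : E, z * a * (z * b) * (z * c) = z * (a * b * c) := fun a b c => by
    rw [mul_mul_mul_comm z a z b, F.hz, one_mul, mul_left_comm]
  ext x
  constructor
  · rintro ⟨_, ⟨a, ha, rfl⟩, _, ⟨b, hb, rfl⟩, _, ⟨c, hc, rfl⟩, h1, h2, h3, rfl⟩
    rw [key]
    exact F.triple_shift _ ⟨a, ha, b, hb, c, hc, fun e => h1 (e ▸ rfl), fun e => h2 (e ▸ rfl),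
      fun e => h3 (e ▸ rfl), rfl⟩
  · intro hx
    obtain ⟨a, ha, b, hb, c, hc, h1, h2, h3, e⟩ := F.triple_shift x hx
    exact ⟨_, ⟨a, ha, rfl⟩, _, ⟨b, hb, rfl⟩, _, ⟨c, hc, rfl⟩, fun e' => h1 (mul_left_cancel e'),
      fun e' => h2 (mul_left_cancel e'), fun e' => h3 (mul_left_cancel e'), by rw [key, e, F.mul_self_left]⟩

/-- The other frame. -/
theorem swap : Frame z (shift z T) Γ := by
  have e1 : shift z (shift z T) = T := shift_shift F.hz T
  have e2 := pairProds_shift (T := T) F.hz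
  have e3 := F.swap_triples
  constructor
  · exact F.sq
  · exact F.order
  · rw [F.card_shift]; exact F.points
  · rw [e2]; exact F.pairs
  · rw [e3]; exact F.triples
  · exact F.z_ne
  · rw [e1, e2, e3]; exact ⟨F.one_notMem.2.1, F.one_notMem.1, F.one_notMem.2.2⟩
  · rw [e1, e2, e3]; exact ⟨F.z_notMem.2.1, F.z_notMem.1, F.z_notMem.2.2⟩
  · rw [e1]; exact F.point_shift.symm
  · rw [e2]; exact F.pair_shift
  · rw [e1, e2, Set.union_comm (shift z T) T]; exact F.point_pair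
  · rw [e1, e2, e3, Set.union_comm (shift z T) T]; exact F.low_triple
  · intro x
    rw [e1, e2, e3]
    have := F.cover x
    tauto
  · rw [e3]; exact F.triple_shift
  · exact F.stable_shift
  · exact F.trans_shift F.trans_point
  · rw [e2]; exact F.trans_pair
  · rw [e3]; exact F.trans_triple

/-- The divisibility for the size of the orbit. -/
theorem orbit_dvd : (orbitSet z Γ).ncard * 4620 ∣ ∏ i : Fin 11, (2 ^ 11 - 2 ^ (i : ℕ)) := by
  classical
  haveI : Fact (Nat.Prime 2) := ⟨Nat.prime_two⟩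
  set S := MulAction.stabilizer (↥Γ) z with hS
  have hmem : ∀ γ : ↥Γ, γ ∈ S ↔ (γ : MulAut E) z = z := fun γ => Iff.rfl
  have horb : MulAction.orbit (↥Γ) z = orbitSet z Γ :=
    Set.ext fun x => ⟨fun ⟨γ, e⟩ => ⟨γ.1, γ.2, e⟩, fun ⟨γ, hγ, e⟩ => ⟨⟨γ, hγ⟩, e⟩⟩
  have key : ∀ {X : Set E}, Trans z Γ X → Stable z Γ X → X.Nonempty → X.ncard ∣ Nat.card S := by
    rintro X hT hX ⟨a, ha⟩
    have e : MulAction.orbit (↥S) a = X := by
      refine Set.Subset.antisymm ?_ fun b hb => ?_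
      · rintro _ ⟨γ, rfl⟩
        exact hX γ.1.1 γ.1.2 γ.2 a ha
      · obtain ⟨γ, hγ, hz, rfl⟩ := hT a ha b hb
        exact ⟨⟨⟨γ, hγ⟩, hz⟩, rfl⟩
    rw [← e, ← MulAction.index_stabilizer]
    exact Subgroup.index_dvd_card _
  have hP : Stable z Γ (pairProds T) := by
    rintro γ hγ hz _ ⟨a, ha, b, hb, hne, rfl⟩
    exact ⟨γ a, F.stab γ hγ hz a ha, γ b, F.stab γ hγ hz b hb, γ.injective.ne hne, (map_mul γ a b).symm⟩
  have hR : Stable z Γ (tripleProds T) := by
    rintro γ hγ hz _ ⟨a, ha, b, hb, c, hc, h1, h2, h3, rfl⟩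
    exact ⟨γ a, F.stab γ hγ hz a ha, γ b, F.stab γ hγ hz b hb, γ c, F.stab γ hγ hz c hc, γ.injective.ne h1,
      γ.injective.ne h2, γ.injective.ne h3, by rw [map_mul, map_mul]⟩
  have h1 : 231 ∣ Nat.card S := F.pairs ▸ key F.trans_pair hP
    (Set.nonempty_of_ncard_ne_zero (by rw [F.pairs]; norm_num))
  have h2 : 1540 ∣ Nat.card S := F.triples ▸ key F.trans_triple hR
    (Set.nonempty_of_ncard_ne_zero (by rw [F.triples]; norm_num))
  have h3 : 4620 ∣ Nat.card S := by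
    have := Nat.lcm_dvd h1 h2
    rwa [show Nat.lcm 231 1540 = 4620 by decide] at this
  have h4 : (orbitSet z Γ).ncard * Nat.card S = Nat.card ↥Γ := by
    rw [← horb, ← MulAction.index_stabilizer, Subgroup.index_mul_card]
  have h5 := mulAut_card_dvd F.sq F.order
  rw [Matrix.card_GL_field, ZMod.card] at h5
  exact (h4 ▸ Nat.mul_dvd_mul_left _ h3).trans ((Subgroup.card_subgroup_dvd_card Γ).trans h5)

end Frame

end Cfsg.Lib.FusionFrame
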