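import Cfsg.Agent.FusionFrame.CliqueGroup
import Cfsg.Agent.FusionFrame.Count

/-!
An involution whose centraliser is the double cover: exactly twenty-three of its conjugates lie in the elementary group
of the centraliser, and the normaliser of that group permutes them transitively.
-/

set_option autoImplicit false
set_option linter.style.haveILetI false
set_option linter.unusedSectionVars false

namespace Cfsg.Lib.FusionFrame

open Cfsg Subgroup Cfsg.Lib.ThreeTr

universe u v w

variable {G : Type w} [Group G]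

theorem conj_mem_of_normalizer {A : Subgroup G} {n x : G} (hn : n ∈ normalizer (A : Set G)) (hx : x ∈ A) :
    n * x * n⁻¹ ∈ A := (mem_normalizer_iff.1 hn x).1 hx

/-- The automorphism given by a member of the normaliser. -/
def normalizerAut (A : Subgroup G) : ↥(normalizer (A : Set G)) →* MulAut ↥A where
  toFun n :=
    { toFun := fun x => ⟨n.1 * x.1 * n.1⁻¹, conj_mem_of_normalizer n.2 x.2⟩
      invFun := fun x => ⟨n.1⁻¹ * x.1 * n.1, by simpa using conj_mem_of_normalizer (inv_mem n.2) x.2⟩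
      left_inv := fun x => Subtype.ext (show n.1⁻¹ * (n.1 * x.1 * n.1⁻¹) * n.1 = x.1 by group)
      right_inv := fun x => Subtype.ext (show n.1 * (n.1⁻¹ * x.1 * n.1) * n.1⁻¹ = x.1 by group)
      map_mul' := fun x y => Subtype.ext
        (show n.1 * (x.1 * y.1) * n.1⁻¹ = n.1 * x.1 * n.1⁻¹ * (n.1 * y.1 * n.1⁻¹) by group) }
  map_one' := MulEquiv.ext fun x => Subtype.ext (show (1 : G) * x.1 * (1 : G)⁻¹ = x.1 by group)
  map_mul' n m := MulEquiv.ext fun x => Subtype.ext
    (show n.1 * m.1 * x.1 * (n.1 * m.1)⁻¹ = n.1 * (m.1 * x.1 * m.1⁻¹) * n.1⁻¹ by group)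

theorem normalizer_of_map_eq {A : Subgroup G} {n : G} (h : A.map (MulAut.conj n).toMonoidHom = A) :
    n ∈ normalizer (A : Set G) := by
  refine mem_normalizer_iff.2 fun x => ⟨fun hx => h.le ⟨x, hx, rfl⟩, fun hx => ?_⟩
  obtain ⟨y, hy, e⟩ := h.ge hx
  have e' : n * y * n⁻¹ = n * x * n⁻¹ := e
  rwa [← mul_left_cancel (mul_right_cancel e')]

variable {C : Type u} [Group C] [Finite C] {Q : Type v} [Group Q] [Finite Q] {π : C →* Q} {D : Set Q} {z : C}
  {L : Set C} {B : Set Q} (K : Cover π D z L) (hB : IsMaxClique D B)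
include K hB

/-- Members of the group conjugate in the cover are conjugate by an element normalising it. -/
theorem Cover.conj_normalizing {x y : C} (hx : x ∈ (closure B).comap π) (hy : y ∈ (closure B).comap π) {g : C}
    (hg : g * x * g⁻¹ = y) :
    ∃ n : C, n * x * n⁻¹ = y ∧ ∀ a ∈ (closure B).comap π, n * a * n⁻¹ ∈ (closure B).comap π := by
  set A := (closure B).comap π with hAdef
  haveI : Fact (Nat.Prime 2) := ⟨Nat.prime_two⟩
  obtain ⟨hsq, hcm⟩ := K.cliqueGroup_elementary hB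
  set H := centralizer ({y} : Set C)
  have hA : A ≤ H := fun a ha => mem_centralizer_singleton_iff.2 (hcm a ha y hy).eq
  set A' := A.map (MulAut.conj g).toMonoidHom
  have hA' : A' ≤ H := by
    rintro _ ⟨a, ha, rfl⟩
    refine mem_centralizer_singleton_iff.2 ?_
    rw [← hg]
    exact ((conj_commute_iff g a x).2 (hcm a ha x hx)).eq
  have hp : ∀ {E : Subgroup C}, (∀ a ∈ E, a * a = 1) → IsPGroup 2 ↥(E.subgroupOf H) := fun h a =>
    ⟨1, Subtype.ext (Subtype.ext (by simpa [pow_two] using h _ a.2))⟩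
  obtain ⟨P, hP⟩ := (hp (E := A) hsq).exists_le_sylow
  obtain ⟨R, hR⟩ := (hp (E := A') (by
    rintro _ ⟨a, ha, rfl⟩
    rw [← map_mul, hsq a ha, map_one])).exists_le_sylow
  obtain ⟨m, hm⟩ := MulAction.exists_smul_eq ↥H R P
  have hle : A.map (MulAut.conj ((m : C) * g)).toMonoidHom ≤ (P : Subgroup ↥H).map H.subtype := by
    rintro _ ⟨a, ha, rfl⟩
    have h1 : (MulAut.conj g).toMonoidHom a ∈ A' := mem_map_of_mem _ ha
    refine ⟨m * ⟨_, hA' h1⟩ * m⁻¹, ?_, ?_⟩
    · rw [← hm, Sylow.coe_subgroup_smul]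
      exact ⟨⟨_, hA' h1⟩, hR h1, rfl⟩
    · show (m : C) * (g * a * g⁻¹) * (m : C)⁻¹ = (m : C) * g * a * ((m : C) * g)⁻¹
      group
  rcases K.elementary_le hB (P.isPGroup'.map H.subtype) (fun a ha => ⟨⟨a, hA ha⟩, hP ha, rfl⟩) hle
      (by rintro _ ⟨a, ha, rfl⟩; rw [← map_mul, hsq a ha, map_one])
      (by rintro _ ⟨a, ha, rfl⟩ _ ⟨b, hb, rfl⟩; exact (hcm a ha b hb).map _) with h | h
  · refine ⟨(m : C) * g, ?_, fun a ha => h ⟨a, ha, rfl⟩⟩
    calc (m : C) * g * x * ((m : C) * g)⁻¹ = (m : C) * (g * x * g⁻¹) * (m : C)⁻¹ := by group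
      _ = y := by rw [hg, mem_centralizer_singleton_iff.1 m.2, mul_inv_cancel_right]
  · rw [← Nat.card_congr (A.equivMapOfInjective _ (MulAut.conj ((m : C) * g)).injective).toEquiv,
      K.card_clique hB] at h
    exact absurd h (lt_irrefl _)

/-- An element normalising the group moves lifts to lifts. -/
theorem Cover.lift_stable {n a : C} (hn : ∀ a ∈ (closure B).comap π, n * a * n⁻¹ ∈ (closure B).comap π)
    (ha : a ∈ liftsOver π L B) : n * a * n⁻¹ ∈ liftsOver π L B := by
  have h1 := K.conj n a ha.1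
  have h2 : π (n * a * n⁻¹) ∈ closure B := hn a (mem_comap.2 (subset_closure ha.2))
  obtain ⟨-, hcm⟩ := hB.closure_elementary K.m22
  exact ⟨h1, hB.max _ (K.proj _ h1) fun f hf => hcm _ h2 _ (subset_closure hf)⟩

variable [Finite G] {d : G} {i : C →* G} (hi : Function.Injective i)
  (hrange : ∀ x : G, Commute x d → ∃ c, i c = x) (hid : i z = d)
include hi hrange hid

/-- A member of the group that is conjugate to `d` is so by the normaliser. -/
theorem Cover.normalizer_moves {x : G} (hx : x ∈ ((closure B).comap π).map i) (hc : IsConj d x) :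
    ∃ n ∈ normalizer ((((closure B).comap π).map i : Subgroup G) : Set G), n * d * n⁻¹ = x := by
  set A := (closure B).comap π with hAdef
  set A₁ := A.map i with hA₁
  obtain ⟨g, rfl⟩ := isConj_iff.1 hc
  obtain ⟨hsq, hcm⟩ := K.cliqueGroup_elementary hB
  obtain ⟨a, ha, hax⟩ := hx
  have hpre : ∀ w ∈ A, ∃ c, i c = g⁻¹ * i w * g := fun w hw => hrange _ (by
    refine (conj_commute_iff g _ _).1 ?_
    rw [show g * (g⁻¹ * i w * g) * g⁻¹ = i w by group, ← hax]
    exact (hcm w hw a ha).map i)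
  let E : Subgroup C := (A₁.map (MulAut.conj g⁻¹).toMonoidHom).comap i
  have hEmem : ∀ c, c ∈ E ↔ ∃ w ∈ A, i c = g⁻¹ * i w * g := fun c => by
    simp [E, hA₁, eq_comm]
  have hE2 : ∀ c ∈ E, c * c = 1 := fun c hc => by
    obtain ⟨w, hw, e⟩ := (hEmem c).1 hc
    refine hi ?_
    rw [map_mul, e, show g⁻¹ * i w * g * (g⁻¹ * i w * g) = g⁻¹ * (i w * i w) * g by group, ← map_mul,
      hsq w hw, map_one]
    group
  have hEc : ∀ c ∈ E, ∀ c' ∈ E, Commute c c' := fun c hc c' hc' => by
    obtain ⟨w, hw, e⟩ := (hEmem c).1 hc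
    obtain ⟨w', hw', e'⟩ := (hEmem c').1 hc'
    refine hi ?_
    rw [map_mul, map_mul, e, e']
    simpa using (((hcm w hw w' hw').map i).map (MulAut.conj g⁻¹).toMonoidHom).eq
  have hEmap : E.map i = A₁.map (MulAut.conj g⁻¹).toMonoidHom := by
    refine map_comap_eq_self ?_
    rintro _ ⟨_, ⟨w, hw, rfl⟩, rfl⟩
    obtain ⟨c, hc⟩ := hpre w hw
    exact ⟨c, by simpa using hc⟩
  have hEcard : Nat.card ↥E = 2 ^ 11 := by
    rw [Nat.card_congr (E.equivMapOfInjective i hi).toEquiv, hEmap,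
      ← Nat.card_congr (A₁.equivMapOfInjective _ (MulAut.conj g⁻¹).injective).toEquiv, hA₁,
      ← Nat.card_congr (A.equivMapOfInjective i hi).toEquiv]
    exact K.card_clique hB
  obtain ⟨k, hk⟩ := K.elementary_conj hB hE2 hEc hEcard
  have e : A₁.map (MulAut.conj (i k * g⁻¹)).toMonoidHom = A₁ := by
    calc A₁.map (MulAut.conj (i k * g⁻¹)).toMonoidHom
        = (A₁.map (MulAut.conj g⁻¹).toMonoidHom).map (MulAut.conj (i k)).toMonoidHom := by
          have hf : (MulAut.conj (i k * g⁻¹)).toMonoidHom =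
              (MulAut.conj (i k)).toMonoidHom.comp (MulAut.conj g⁻¹).toMonoidHom :=
            MonoidHom.ext fun w => by simp [mul_assoc]
          rw [hf, ← Subgroup.map_map]
      _ = (E.map i).map (MulAut.conj (i k)).toMonoidHom := by rw [hEmap]
      _ = (E.map (MulAut.conj k).toMonoidHom).map i := by
          rw [Subgroup.map_map, Subgroup.map_map]
          congr 1
          ext w
          simp
      _ = A₁ := by rw [hk]
  refine ⟨(i k * g⁻¹)⁻¹, inv_mem (normalizer_of_map_eq e), ?_⟩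
  have hcd : i k * d = d * i k := by rw [← hid, ← map_mul, ← map_mul, (K.double.central k).eq]
  calc (i k * g⁻¹)⁻¹ * d * ((i k * g⁻¹)⁻¹)⁻¹ = g * ((i k)⁻¹ * (d * i k)) * g⁻¹ := by group
    _ = g * d * g⁻¹ := by rw [← hcd]; group

/-- The conjugates of `d` in the group, given one other than `d`. -/
theorem Cover.ncard_conjugates (hw : ∃ g : G, Commute (g * d * g⁻¹) d ∧ g * d * g⁻¹ ≠ d) :
    {x : G | x ∈ ((closure B).comap π).map i ∧ IsConj d x}.ncard = 23 := by
  classical
  set A₁ := ((closure B).comap π).map i with hA₁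
  obtain ⟨hsq, hcm⟩ := K.cliqueGroup_elementary hB
  have hsq₁ : ∀ x ∈ A₁, x * x = 1 := by rintro _ ⟨a, ha, rfl⟩; rw [← map_mul, hsq a ha, map_one]
  letI : CommGroup ↥A₁ :=
    { (inferInstance : Group ↥A₁) with
      mul_comm := fun x y => Subtype.ext (by
        obtain ⟨a, ha, e⟩ := x.2
        obtain ⟨b, hb, e'⟩ := y.2
        show x.1 * y.1 = y.1 * x.1
        rw [← e, ← e']
        exact ((hcm a ha b hb).map i).eq) }
  have hcard : Nat.card ↥A₁ = 2 ^ 11 :=
    (Nat.card_congr (((closure B).comap π).equivMapOfInjective i hi).toEquiv).symm.trans (K.card_clique hB)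
  let E := ↥A₁
  let emb : (c : C) → c ∈ (closure B).comap π → E := fun c hc => ⟨i c, c, hc, rfl⟩
  have hzA : z ∈ (closure B).comap π := mem_comap.2 (by rw [K.z_ker]; exact one_mem _)
  let Z : E := emb z hzA
  let S : ℕ → Set E := fun k => {x | ∃ l, IsWord π L B l ∧ l.length = k ∧ i l.prod = x.1}
  let T : Set E := S 1
  have hpre : ∀ x : E, ∃ c, c ∈ (closure B).comap π ∧ i c = x.1 := fun x => x.2
  -- cardinalities
  have hS : ∀ k, k ≤ 3 → (S k).ncard = Nat.choose 22 k := by
    intro k hk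
    rw [← K.ncard_wordSet hB hk]
    refine (Set.ncard_congr (fun c hc => emb c (by obtain ⟨l, hl, -, rfl⟩ := hc; exact K.word_mem hB hl))
      ?_ (fun a b _ _ e => hi (congrArg Subtype.val e)) ?_).symm
    · rintro _ ⟨l, hl, hlen, rfl⟩
      exact ⟨l, hl, hlen, rfl⟩
    · rintro x ⟨l, hl, hlen, e⟩
      exact ⟨l.prod, ⟨l, hl, hlen, rfl⟩, Subtype.ext e⟩
  have hT1 : ∀ {x : E}, x ∈ T ↔ ∃ a ∈ liftsOver π L B, i a = x.1 := by
    intro x
    constructor
    · rintro ⟨l, hl, hlen, e⟩
      obtain ⟨a, rfl⟩ := List.length_eq_one_iff.1 hlen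
      exact ⟨a, hl.mem a (by simp), by simpa using e⟩
    · rintro ⟨a, ha, e⟩
      exact ⟨[a], ⟨List.nodup_singleton a, by simp, by simpa using ha⟩, rfl, by simpa using e⟩
  have hP : pairProds T = S 2 := by
    ext x
    constructor
    · rintro ⟨a, ha, b, hb, hne, rfl⟩
      obtain ⟨a', ha', ea⟩ := hT1.1 ha
      obtain ⟨b', hb', eb⟩ := hT1.1 hb
      have hne' : a' ≠ b' := fun e => hne (Subtype.ext (by rw [← ea, ← eb, e]))
      refine ⟨[a', b'], ⟨by simp [hne'], by simp, ?_⟩, rfl, ?_⟩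
      · intro w hw'
        simp only [List.mem_cons, List.not_mem_nil, or_false] at hw'
        rcases hw' with rfl | rfl <;> assumption
      · show i [a', b'].prod = a.1 * b.1
        rw [List.prod_cons, List.prod_singleton, map_mul, ea, eb]
    · rintro ⟨l, hl, hlen, e⟩
      obtain ⟨a, b, rfl⟩ := List.length_eq_two.1 hlen
      have ha := hl.mem a (by simp)
      have hb := hl.mem b (by simp)
      refine ⟨emb a (mem_comap.2 (subset_closure ha.2)), hT1.2 ⟨a, ha, rfl⟩, emb b (mem_comap.2 (subset_closure hb.2)),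
        hT1.2 ⟨b, hb, rfl⟩, fun e' => ?_, Subtype.ext ?_⟩
      · have : a = b := hi (congrArg Subtype.val e')
        simpa [this] using hl.nodup
      · rw [← e, List.prod_cons, List.prod_singleton, map_mul]
        rfl
  have hR : tripleProds T = S 3 := by
    ext x
    constructor
    · rintro ⟨a, ha, b, hb, c, hc, h1, h2, h3, rfl⟩
      obtain ⟨a', ha', ea⟩ := hT1.1 ha
      obtain ⟨b', hb', eb⟩ := hT1.1 hb
      obtain ⟨c', hc', ec⟩ := hT1.1 hc
      have n1 : a' ≠ b' := fun e => h1 (Subtype.ext (by rw [← ea, ← eb, e]))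
      have n2 : a' ≠ c' := fun e => h2 (Subtype.ext (by rw [← ea, ← ec, e]))
      have n3 : b' ≠ c' := fun e => h3 (Subtype.ext (by rw [← eb, ← ec, e]))
      refine ⟨[a', b', c'], ⟨by simp [n1, n2, n3], by simp, ?_⟩, rfl, ?_⟩
      · intro w hw'
        simp only [List.mem_cons, List.not_mem_nil, or_false] at hw'
        rcases hw' with rfl | rfl | rfl <;> assumption
      · show i [a', b', c'].prod = a.1 * b.1 * c.1
        rw [List.prod_cons, List.prod_cons, List.prod_singleton, map_mul, map_mul, ea, eb, ec, mul_assoc]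
    · rintro ⟨l, hl, hlen, e⟩
      obtain ⟨a, b, c, rfl⟩ := List.length_eq_three.1 hlen
      have ha := hl.mem a (by simp)
      have hb := hl.mem b (by simp)
      have hc := hl.mem c (by simp)
      have hn := hl.nodup
      simp only [List.nodup_cons, List.mem_cons, List.not_mem_nil, or_false, not_or] at hn
      refine ⟨emb a (mem_comap.2 (subset_closure ha.2)), hT1.2 ⟨a, ha, rfl⟩, emb b (mem_comap.2 (subset_closure hb.2)),
        hT1.2 ⟨b, hb, rfl⟩, emb c (mem_comap.2 (subset_closure hc.2)), hT1.2 ⟨c, hc, rfl⟩,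
        fun e' => hn.1.1 (hi (congrArg Subtype.val e')), fun e' => hn.1.2 (hi (congrArg Subtype.val e')),
        fun e' => hn.2.1 (hi (congrArg Subtype.val e')), Subtype.ext ?_⟩
      rw [← e, List.prod_cons, List.prod_cons, List.prod_singleton, map_mul, map_mul, ← mul_assoc]
      rfl
  -- members and their images below
  have key : ∀ {k} {x : E}, x ∈ S k ∪ shift Z (S k) → ∃ l, IsWord π L B l ∧ l.length = k ∧
      ∀ c, i c = x.1 → π c = π l.prod := by
    rintro k x (⟨l, hl, hlen, e⟩ | ⟨y, ⟨l, hl, hlen, e⟩, rfl⟩)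
    · exact ⟨l, hl, hlen, fun c hc => by rw [hi (hc.trans e.symm)]⟩
    · refine ⟨l, hl, hlen, fun c hc => ?_⟩
      rw [hi (hc.trans (show i z * y.1 = i (z * l.prod) by rw [map_mul, e])), map_mul, K.z_ker, one_mul]
  have hsep : ∀ {j k}, j ≠ k → Disjoint (S j ∪ shift Z (S j)) (S k ∪ shift Z (S k)) := by
    intro j k hjk
    refine Set.disjoint_left.2 fun x hj hk => ?_
    obtain ⟨l, hl, rfl, el⟩ := key hj
    obtain ⟨l', hl', rfl, el'⟩ := key hk
    obtain ⟨c, -, hc⟩ := hpre x
    exact hjk (K.word_length hB hl hl' ((el c hc).symm.trans (el' c hc)))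
  have hnot : ∀ {k}, 1 ≤ k → ∀ c ∈ (closure B).comap π, π c = 1 → ∀ {x : E}, x.1 = i c →
      x ∉ S k ∪ shift Z (S k) := by
    intro k hk c _ hc x hx hmem
    obtain ⟨l, hl, rfl, el⟩ := key hmem
    exact K.word_ne hB hl hk ((el c hx.symm).symm.trans hc)
  have hdz : ∀ {k}, k ≤ 2 → Disjoint (S k) (shift Z (S k)) := fun hk => Set.disjoint_left.2 (by
    rintro x ⟨l, hl, hlk, e⟩ ⟨y, ⟨l', hl', -, e'⟩, rfl⟩
    exact K.word_shift_ne hB hl hl' (hlk ▸ hk) (hi (e.trans (show i z * y.1 = i (z * l'.prod) by rw [map_mul, e']))))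
  -- the automorphisms
  set Γ : Subgroup (MulAut E) := (normalizerAut A₁).range with hΓ
  have htrans : ∀ k, k ≤ 3 → ∀ x ∈ S k, ∀ y ∈ S k, ∃ γ ∈ Γ, γ Z = Z ∧ γ x = y := by
    rintro k hk x ⟨l, hl, hlen, ex⟩ y ⟨l', hl', hlen', ey⟩
    obtain ⟨g, hg⟩ := K.word_isConj hB hl hl' (hlen.trans hlen'.symm)
    obtain ⟨n, hn, hnA⟩ := K.conj_normalizing hB (K.word_mem hB hl) (K.word_mem hB hl') hg
    have hN : i n ∈ normalizer (A₁ : Set G) := by
      refine normalizer_of_map_eq (eq_of_le_of_card_ge ?_ (le_of_eq ?_))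
      · rintro _ ⟨_, ⟨a, ha, rfl⟩, rfl⟩
        exact ⟨n * a * n⁻¹, hnA a ha, by simp⟩
      · exact Nat.card_congr (A₁.equivMapOfInjective _ (MulAut.conj (i n)).injective).toEquiv
    refine ⟨normalizerAut A₁ ⟨i n, hN⟩, ⟨_, rfl⟩, Subtype.ext ?_, Subtype.ext ?_⟩
    · show i n * i z * (i n)⁻¹ = i z
      rw [← map_inv, ← map_mul, ← map_mul, (K.double.central n).symm.eq, mul_inv_cancel_right]
    · show i n * x.1 * (i n)⁻¹ = y.1
      rw [← ex, ← ey, ← map_inv, ← map_mul, ← map_mul, hn]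
  have F : Frame Z T Γ := by
    have hz1 : (1 : E).1 = i 1 := (map_one i).symm
    have hzZ : Z.1 = i z := rfl
    constructor
    · exact fun x => Subtype.ext (hsq₁ x.1 x.2)
    · exact hcard
    · exact (hS 1 (by norm_num)).trans (by norm_num)
    · rw [hP]; exact (hS 2 (by norm_num)).trans (by norm_num [Nat.choose])
    · rw [hR]; exact (hS 3 le_rfl).trans (by norm_num [Nat.choose])
    · intro e
      exact K.z_ne (hi ((congrArg Subtype.val e).trans hz1))
    · rw [hP, hR]
      exact ⟨fun h => hnot le_rfl 1 (one_mem _) (map_one π) hz1 (Or.inl h),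
        fun h => hnot (k := 1) le_rfl 1 (one_mem _) (map_one π) hz1 (Or.inr h),
        fun h => hnot (k := 2) (by norm_num) 1 (one_mem _) (map_one π) hz1 (Or.inl h),
        fun h => hnot (k := 2) (by norm_num) 1 (one_mem _) (map_one π) hz1 (Or.inr h),
        fun h => hnot (k := 3) (by norm_num) 1 (one_mem _) (map_one π) hz1 (Or.inl h)⟩
    · rw [hP, hR]
      exact ⟨fun h => hnot le_rfl z hzA K.z_ker hzZ (Or.inl h),
        fun h => hnot (k := 1) le_rfl z hzA K.z_ker hzZ (Or.inr h),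
        fun h => hnot (k := 2) (by norm_num) z hzA K.z_ker hzZ (Or.inl h),
        fun h => hnot (k := 2) (by norm_num) z hzA K.z_ker hzZ (Or.inr h),
        fun h => hnot (k := 3) (by norm_num) z hzA K.z_ker hzZ (Or.inl h)⟩
    · exact hdz (by norm_num)
    · rw [hP]; exact hdz le_rfl
    · rw [hP]; exact hsep (by norm_num)
    · rw [hP, hR]
      exact Set.disjoint_union_left.2 ⟨(hsep (j := 1) (k := 3) (by norm_num)).mono_right Set.subset_union_left,
        (hsep (j := 2) (k := 3) (by norm_num)).mono_right Set.subset_union_left⟩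
    · intro x
      rw [hP, hR]
      obtain ⟨c, hc, ec⟩ := hpre x
      obtain ⟨l, hl, hx⟩ := K.word_cover hB hc
      have hle := hl.le
      have hm : emb l.prod (K.word_mem hB hl) ∈ S l.length := ⟨l, hl, rfl, rfl⟩
      rcases hx with e | e
      · obtain rfl : x = emb l.prod (K.word_mem hB hl) := Subtype.ext (by rw [← ec, e])
        interval_cases h : l.length
        · left
          exact Subtype.ext (by rw [hz1]; show i l.prod = i 1; rw [List.length_eq_zero_iff.1 h, List.prod_nil])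
        · exact .inr (.inr (.inl hm))
        · exact .inr (.inr (.inr (.inr (.inl hm))))
        · exact .inr (.inr (.inr (.inr (.inr (.inr hm)))))
      · have hxe : x = Z * emb l.prod (K.word_mem hB hl) :=
          Subtype.ext (ec.symm.trans (by rw [e, map_mul]; rfl))
        subst hxe
        interval_cases h : l.length
        · right; left
          refine Subtype.ext ?_
          show i z * i l.prod = i z
          rw [List.length_eq_zero_iff.1 h, List.prod_nil, map_one, mul_one]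
        · exact .inr (.inr (.inr (.inl ⟨_, hm, rfl⟩)))
        · exact .inr (.inr (.inr (.inr (.inr (.inl ⟨_, hm, rfl⟩)))))
        · obtain ⟨l', hl', hlen', e'⟩ := K.word_shift hB hl h
          exact .inr (.inr (.inr (.inr (.inr (.inr ⟨l', hl', hlen', by rw [e', map_mul]; rfl⟩)))))
    · rw [hR]
      rintro x ⟨l, hl, hlen, ex⟩
      obtain ⟨l', hl', hlen', e'⟩ := K.word_shift hB hl hlen
      exact ⟨l', hl', hlen', by rw [e', map_mul, ex]; rfl⟩
    · rintro γ ⟨n, rfl⟩ hγ x hx
      obtain ⟨a, ha, ea⟩ := hT1.1 hx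
      have hnd : Commute n.1 d := by
        have h1 : n.1 * i z * n.1⁻¹ = i z := congrArg Subtype.val hγ
        rw [hid] at h1
        exact mul_inv_eq_iff_eq_mul.1 h1
      obtain ⟨c, hc⟩ := hrange n.1 hnd
      refine hT1.2 ⟨c * a * c⁻¹, K.lift_stable hB (fun w hw' => ?_) ha, ?_⟩
      · obtain ⟨w', hw'', e⟩ := conj_mem_of_normalizer n.2 (mem_map_of_mem i hw')
        rw [← hc, ← map_inv, ← map_mul, ← map_mul] at e
        exact hi e ▸ hw''
      · show i (c * a * c⁻¹) = n.1 * x.1 * n.1⁻¹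
        rw [map_mul, map_mul, map_inv, hc, ea]
    · exact htrans 1 (by norm_num)
    · rw [hP]; exact htrans 2 (by norm_num)
    · rw [hR]; exact htrans 3 le_rfl
  have hne : ∃ γ ∈ Γ, γ Z ≠ Z := by
    obtain ⟨g, hgc, hgd⟩ := hw
    obtain ⟨c, hc⟩ := hrange _ hgc
    have hd2 : d * d = 1 := by rw [← hid, ← map_mul, K.double.sq, map_one]
    have hc2 : c * c = 1 := hi (by
      rw [map_mul, hc, map_one, show g * d * g⁻¹ * (g * d * g⁻¹) = g * (d * d) * g⁻¹ by group, hd2]
      group)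
    obtain ⟨k, hk⟩ := K.involution_conj hB hc2
    obtain ⟨n, hn, hne⟩ := K.normalizer_moves hB hi hrange hid (mem_map_of_mem i hk)
      (isConj_iff.2 ⟨i k * g, by rw [map_mul, map_mul, map_inv, hc]; group⟩)
    refine ⟨normalizerAut A₁ ⟨n, hn⟩, ⟨_, rfl⟩, fun e => hgd ?_⟩
    have e1 : n * i z * n⁻¹ = i z := congrArg Subtype.val e
    rw [hid, hne] at e1
    have e2 : c = z := by
      have e3 : k * c * k⁻¹ = z := hi (e1.trans hid.symm)
      calc c = k⁻¹ * (k * c * k⁻¹) * k := by group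
        _ = k⁻¹ * (z * k) := by rw [e3, mul_assoc]
        _ = z := by rw [(K.double.central k).eq, inv_mul_cancel_left]
    rw [← hc, e2, hid]
  rw [← F.orbit_card hne, ← Set.ncard_image_of_injective (orbitSet Z Γ) Subtype.val_injective]
  congr 1
  ext x
  constructor
  · rintro ⟨hx, hxc⟩
    obtain ⟨n, hn, e⟩ := K.normalizer_moves hB hi hrange hid hx hxc
    refine ⟨⟨x, hx⟩, ⟨normalizerAut A₁ ⟨n, hn⟩, ⟨_, rfl⟩, Subtype.ext ?_⟩, rfl⟩
    show n * i z * n⁻¹ = x
    rw [hid, e]
  · rintro ⟨y, ⟨γ, ⟨n, rfl⟩, rfl⟩, rfl⟩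
    refine ⟨Subtype.coe_prop _, isConj_iff.2 ⟨n.1, ?_⟩⟩
    show n.1 * d * n.1⁻¹ = n.1 * i z * n.1⁻¹
    rw [hid]

end Cfsg.Lib.FusionFrame
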