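import Cfsg.Agent.FusionFrame.DoubleM22
import Cfsg.Agent.FusionFrame.CoverUnique
import Cfsg.Agent.ThreeTransposition.M22Count.UniqueClass
import Cfsg.Agent.ThreeTransposition.Y332.Iso
import Cfsg.Agent.FiTwenty.Outer
import Cfsg.Agent.FiSixfold.Multiplier

/-!
Every perfect double cover of a group of type M(22) has a class of lifts as in the centraliser of a transposition in the
presented Fischer group on ten letters.
-/

set_option autoImplicit false
set_option linter.style.haveILetI false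
set_option linter.unusedSectionVars false

namespace Cfsg.Lib.FusionFrame

open Cfsg Subgroup Cfsg.Lib.CosetCert Cfsg.Lib.ThreeTr Cfsg.Lib.DoubleCover
open Cfsg.Lib.FiTwenty (imZ lamH transp zH down down_surjective down_z mem_transp transp_class az_not)

universe u v

theorem exists_cover {C : Type u} [Group C] [Finite C] {Q : Type v} [Group Q] [Finite Q] {π : C →* Q} {D : Set Q}
    {z : C} (h : M22 D) (hd : IsDouble π z) (hz : z ≠ 1) (hπz : π z = 1) (hC : commutator C = ⊤) :
    ∃ L, Cover π D z L := by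
  classical
  haveI := Cfsg.Lib.FiPres.finite_fi
  haveI : Finite ↥(lgp imZ lamH) := Cfsg.Lib.FiTwenty.bound_h.1
  obtain ⟨iY, hiY⟩ := Y332.exists_iso h
  haveI hsimp : IsSimpleGroup Q := by
    haveI := Cfsg.Lib.FiPres.simple_fi
    haveI : Nontrivial Q := iY.symm.toEquiv.nontrivial
    exact IsSimpleGroup.isSimpleGroup_of_surjective iY.toMonoidHom iY.surjective
  set σ := iY.toMonoidHom.comp down with hσdef
  have hσs : Function.Surjective σ := iY.surjective.comp down_surjective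
  have hker : σ.ker = down.ker := MonoidHom.ker_mulEquiv_comp down iY
  have hσker : ∀ x, σ x = 1 → x = 1 ∨ x = zH := by
    intro x hx
    have hx' : x ∈ down.ker := hker ▸ hx
    have h1 := Cfsg.Lib.FiTwenty.card_ker
    rw [Nat.card_eq_two_iff' (⟨1, one_mem _⟩ : ↥down.ker)] at h1
    obtain ⟨w, -, huniq⟩ := h1
    by_cases e : x = 1
    · exact Or.inl e
    refine Or.inr ?_
    have e1 := huniq ⟨x, hx'⟩ fun e' => e (congrArg Subtype.val e')
    have e2 := huniq ⟨zH, down_z⟩ fun e' => Cfsg.Lib.FiTwenty.z_ne (congrArg (fun y => (y.1 : Cfsg.Spor.Fi23)) e')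
    exact congrArg Subtype.val (e1.trans e2.symm)
  -- the same cover
  have hπk : Nat.card π.ker = 2 := by
    rw [Nat.card_eq_two_iff]
    refine ⟨1, ⟨z, hπz⟩, fun e => hz (congrArg Subtype.val e).symm, Set.eq_univ_of_forall fun y => ?_⟩
    rcases hd.ker y.1 y.2 with e | e
    · exact Or.inl (Subtype.ext e)
    · exact Or.inr (Subtype.ext e)
  obtain ⟨e, he⟩ := exists_cover_equiv σ π hσs hd.surj (by rw [hker, ← Cfsg.Lib.FiTwenty.center_eq])
    (fun x hx => mem_center_iff.2 fun g => by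
      rcases hd.ker x hx with rfl | rfl
      · simp
      · exact (hd.central g).symm.eq)
    Cfsg.Lib.FiSixfold.double_perfect hC (by rw [hker]; exact Cfsg.Lib.FiTwenty.card_ker) hπk
    (fun {Γ} _ _ τ hτ => by
      have hs : Cfsg.IsStemExtension (iY.symm.toMonoidHom.comp τ) := by
        have hk := MonoidHom.ker_mulEquiv_comp τ iY.symm
        exact ⟨iY.symm.surjective.comp hτ.1, hk ▸ hτ.2.1, hk ▸ hτ.2.2⟩
      exact MonoidHom.ker_mulEquiv_comp τ iY.symm ▸ (Cfsg.Lib.FiSixfold.stem_ker hs).1)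
  -- the class of the first letter
  set a : ↥(lgp imZ lamH) := ⟨imZ 0, lgp_mem imZ (by decide)⟩ with hadef
  have ha : σ a ∈ D := by
    rw [← hiY]
    exact ⟨Cfsg.Lib.FiPres.im10 0, mem_conjugatesOf_self, by
      show iY (Cfsg.Lib.FiPres.im10 0) = iY (down a)
      rw [Cfsg.Lib.FiTwenty.down_eq (g := a) (Cfsg.Lib.FiTwenty.agrees_gen (by decide))]⟩
  have hat : a.1 ∈ transp := Cfsg.Lib.FiTwenty.letter_mem_transp (by norm_num)
  have hconjT : ∀ (g : ↥(lgp imZ lamH)) (x : ↥(lgp imZ lamH)), x.1 ∈ transp → (g * x * g⁻¹).1 ∈ transp := by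
    intro g x hx
    exact conj_mem transp_class g.1 hx
  have hproj : ∀ x : ↥(lgp imZ lamH), x.1 ∈ transp → x ≠ zH → σ x ∈ D := by
    intro x hx hxz
    have hne : σ x ≠ 1 := fun e' => by
      rcases hσker x e' with k | k
      · have := transp_class.1.1 _ hx
        rw [k, OneMemClass.coe_one, orderOf_one] at this
        norm_num at this
      · exact hxz k
    have hcl : IsThreeTranspositionClass (conjugatesOf (σ x)) := by
      have hsq : ∀ y : ↥(lgp imZ lamH), y.1 ∈ transp → y * y = 1 := fun y hy =>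
        Subtype.ext (sq_eq_one transp_class.1 hy)
      have himg : ∀ q ∈ conjugatesOf (σ x), ∃ y : ↥(lgp imZ lamH), y.1 ∈ transp ∧ σ y = q := by
        intro q hq
        obtain ⟨g, rfl⟩ := isConj_iff.1 hq
        obtain ⟨g, rfl⟩ := hσs g
        exact ⟨g * x * g⁻¹, hconjT g x hx, by simp⟩
      refine ⟨⟨fun q hq => ?_, fun p hp q hq => ?_⟩, ⟨_, mem_conjugatesOf_self, rfl⟩, ?_⟩
      · obtain ⟨y, hy, rfl⟩ := himg q hq
        refine orderOf_eq_prime (p := 2) (by rw [pow_two, ← map_mul, hsq y hy, map_one]) fun e' => hne ?_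
        obtain ⟨g, hg⟩ := isConj_iff.1 hq
        rw [e'] at hg
        exact conj_eq_one_iff.1 hg
      · obtain ⟨y, hy, rfl⟩ := himg p hp
        obtain ⟨w, hw, rfl⟩ := himg q hq
        rcases transp_class.1.2 _ hy _ hw with k | k
        · left
          rw [← map_mul, ← map_pow, show (y * w) ^ 2 = 1 from Subtype.ext (by simpa using k), map_one]
        · right
          rw [← map_mul, ← map_pow, show (y * w) ^ 3 = 1 from Subtype.ext (by simpa using k), map_one]
      · haveI : (closure (conjugatesOf (σ x))).Normal := by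
          have e' : conjugatesOf (σ x) = Group.conjugatesOfSet {σ x} := by simp [Group.conjugatesOfSet]
          rw [e']
          exact Subgroup.normalClosure_normal
        exact (IsSimpleGroup.eq_bot_or_eq_top_of_normal _ this).resolve_left fun e' =>
          hne (mem_bot.1 (e' ▸ subset_closure mem_conjugatesOf_self))
    exact (h.class_unique hcl) ▸ mem_conjugatesOf_self
  have hlift : ∀ x : ↥(lgp imZ lamH), x.1 ∈ transp → x ≠ zH → ∃ g, g * a * g⁻¹ = x := by
    intro x hx hxz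
    obtain ⟨q, hq⟩ := exists_conj h.cls ha (hproj x hx hxz)
    obtain ⟨g, rfl⟩ := hσs q
    have e1 : σ (x * (g * a * g⁻¹)⁻¹) = 1 := by rw [map_mul, map_inv, map_mul, map_mul, map_inv, hq, mul_inv_cancel]
    rcases hσker _ e1 with k | k
    · exact ⟨g, (mul_inv_eq_one.1 k).symm⟩
    exfalso
    refine az_not ?_
    have e2 : x = zH * (g * a * g⁻¹) := mul_inv_eq_iff_eq_mul.1 k
    have hzc : ∀ y : ↥(lgp imZ lamH), Commute zH y := fun y => (Subtype.ext (Cfsg.Lib.FiTwenty.z_comm y.2) : y * zH = zH * y).symm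
    have e3 := hconjT g⁻¹ x hx
    rw [e2, ← mul_assoc g⁻¹, ← (hzc g⁻¹).eq, show zH * g⁻¹ * (g * a * g⁻¹) * g⁻¹⁻¹ = zH * a by group, (hzc a).eq] at e3
    exact e3
  have hazc : (a * zH).1 ∉ transp := az_not
  have hinj : ∀ x y : ↥(lgp imZ lamH), x.1 ∈ transp → x ≠ zH → y.1 ∈ transp → y ≠ zH → σ x = σ y → x = y := by
    intro x y hx hxz hy hyz hxy
    rcases hσker (x * y⁻¹) (by rw [map_mul, map_inv, hxy, mul_inv_cancel]) with k | k
    · exact mul_inv_eq_one.1 k
    exfalso
    obtain ⟨g, rfl⟩ := hlift y hy hyz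
    refine hazc ?_
    have e2 : x = zH * (g * a * g⁻¹) := mul_inv_eq_iff_eq_mul.1 k
    have hzc : ∀ y : ↥(lgp imZ lamH), Commute zH y := fun y => (Subtype.ext (Cfsg.Lib.FiTwenty.z_comm y.2) : y * zH = zH * y).symm
    have e3 := hconjT g⁻¹ x hx
    rwa [e2, ← mul_assoc g⁻¹, ← (hzc g⁻¹).eq, show zH * g⁻¹ * (g * a * g⁻¹) * g⁻¹⁻¹ = zH * a by group, (hzc a).eq] at e3
  -- six commuting
  have hsix : ∀ l : List ↥(lgp imZ lamH), l.length = 6 → l.Nodup → (∀ x ∈ l, x.1 ∈ transp ∧ x ≠ zH) →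
      (∀ x ∈ l, ∀ y ∈ l, Commute x y) → l.prod ≠ 1 := by
    intro l hlen hnd hmem hcomm hprod
    obtain ⟨f, t, rfl⟩ := List.exists_cons_of_length_pos (l := l) (by omega)
    obtain ⟨g, hg⟩ := exists_conj transp_class (hmem f (by simp)).1 (mem_transp.2 ⟨1, by group⟩ : imZ 10 ∈ transp)
    have hpre : ∀ x ∈ t, ∃ y : ↥(lgp imZ lamH), y.1 = g * x.1 * g⁻¹ := fun x hx => ⟨⟨g * x.1 * g⁻¹, by
      refine Cfsg.Lib.FiTwenty.centralizer_z.le (mem_centralizer_singleton_iff.2 ?_)
      rw [← hg]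
      exact ((conj_commute_iff g x.1 f.1).2 ((hcomm x (by simp [hx]) f (by simp)).map (Subgroup.subtype _))).eq⟩, rfl⟩
    choose F hF using hpre
    set s := t.pmap F fun x hx => hx with hs
    have hval : s.map Subtype.val = t.map fun x => g * x.1 * g⁻¹ := by
      rw [hs, List.map_pmap]
      rw [List.pmap_congr_left (g := fun x (_ : x ∈ t) => g * x.1 * g⁻¹) (H₂ := fun x hx => hx) t
        (fun x _ h1 _ => hF x h1), List.pmap_eq_map]
    have hsm : ∀ y ∈ s, y.1 ∈ transp ∧ y ≠ zH := by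
      intro y hy
      obtain ⟨x, hx, e'⟩ := List.mem_map.1 (hval ▸ List.mem_map_of_mem (f := Subtype.val) hy)
      refine ⟨by rw [← e']; exact conj_mem transp_class g (hmem x (by simp [hx])).1, fun k => ?_⟩
      rw [k] at e'
      have : x = f := Subtype.ext (mul_left_cancel (mul_right_cancel (e'.trans hg.symm)))
      exact (List.nodup_cons.1 hnd).1 (this ▸ hx)
    have hsn : s.Nodup := by
      refine List.Nodup.of_map Subtype.val ?_
      rw [hval]
      exact (List.nodup_cons.1 hnd).2.map_on fun x _ y _ e' => Subtype.ext (mul_left_cancel (mul_right_cancel e'))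
    have hsp : s.prod = zH := by
      refine Subtype.ext ?_
      rw [SubmonoidClass.coe_list_prod, hval]
      have e1 : t.map (fun x => g * x.1 * g⁻¹) = (t.map Subtype.val).map (MulAut.conj g) := by
        rw [List.map_map]; rfl
      rw [e1, ← map_list_prod, ← SubmonoidClass.coe_list_prod]
      rw [List.prod_cons] at hprod
      have e2 : t.prod = f := by
        rw [eq_inv_of_mul_eq_one_right hprod]
        exact inv_eq_of_mul_eq_one_right (Subtype.ext (sq_eq_one transp_class.1 (hmem f (by simp)).1))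
      rw [e2]
      exact hg
    refine m22_five h.cls h.twin h.type (s.map σ) (by simpa [hs] using hlen) ?_ ?_ ?_ ?_
    · exact hsn.map_on fun x hx y hy => hinj x y (hsm x hx).1 (hsm x hx).2 (hsm y hy).1 (hsm y hy).2
    · intro q hq
      obtain ⟨y, hy, rfl⟩ := List.mem_map.1 hq
      exact hproj y (hsm y hy).1 (hsm y hy).2
    · intro p hp q hq
      obtain ⟨x, hx, rfl⟩ := List.mem_map.1 hp
      obtain ⟨y, hy, rfl⟩ := List.mem_map.1 hq
      obtain ⟨u, hu, eu⟩ := List.mem_map.1 (hval ▸ List.mem_map_of_mem (f := Subtype.val) hx)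
      obtain ⟨w, hw, ew⟩ := List.mem_map.1 (hval ▸ List.mem_map_of_mem (f := Subtype.val) hy)
      refine Commute.map (Subtype.ext ?_) σ
      rw [coe_mul, coe_mul, ← eu, ← ew]
      exact ((conj_commute_iff g u.1 w.1).2 ((hcomm u (by simp [hu]) w (by simp [hw])).map (Subgroup.subtype _))).eq
    · rw [← map_list_prod, hsp]
      show iY (down zH) = 1
      rw [down_z, map_one]
  refine ⟨e '' {x | x.1 ∈ transp ∧ x ≠ zH}, h, hd, hz, hπz, ?_, ?_, ?_, ?_, ?_, ?_⟩
  · rintro g _ ⟨x, ⟨hx, hxz⟩, rfl⟩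
    obtain ⟨g, rfl⟩ := e.surjective g
    refine ⟨g * x * g⁻¹, ⟨hconjT g x hx, fun k => hxz ?_⟩, by simp⟩
    calc x = g⁻¹ * (g * x * g⁻¹) * g := by group
      _ = g⁻¹ * (zH * g) := by rw [k, mul_assoc]
      _ = zH := by rw [← (Subtype.ext (Cfsg.Lib.FiTwenty.z_comm g.2) : g * zH = zH * g), inv_mul_cancel_left]
  · rintro _ ⟨x, ⟨hx, hxz⟩, rfl⟩
    rw [he]
    exact hproj x hx hxz
  · rintro _ ⟨x, ⟨hx, hxz⟩, rfl⟩ _ ⟨y, ⟨hy, hyz⟩, rfl⟩ hxy
    rw [he, he] at hxy
    rw [hinj x y hx hxz hy hyz hxy]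
  · intro q hq
    obtain ⟨p, rfl⟩ := exists_conj h.cls ha hq
    obtain ⟨g, rfl⟩ := hσs p
    refine ⟨e (g * a * g⁻¹), ⟨_, ⟨hconjT g a hat, fun k => ?_⟩, rfl⟩, by rw [he]; simp⟩
    have h1 := h.cls.1.1 _ hq
    rw [← map_inv σ g, ← map_mul, ← map_mul, k] at h1
    rw [show σ zH = 1 by show iY (down zH) = 1; rw [down_z, map_one], orderOf_one] at h1
    norm_num at h1
  · rintro _ ⟨x, ⟨hx, -⟩, rfl⟩
    rw [← map_mul, show x * x = 1 from Subtype.ext (sq_eq_one transp_class.1 hx), map_one]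
  · intro l hlen hnd hmem hcomm hprod
    refine hsix (l.map e.symm) (by simpa using hlen) (hnd.map e.symm.injective) (fun x hx => ?_) (fun x hx y hy => ?_)
      (by rw [← map_list_prod, hprod, map_one])
    · obtain ⟨w, hw, rfl⟩ := List.mem_map.1 hx
      obtain ⟨u, hu, rfl⟩ := hmem w hw
      rwa [e.symm_apply_apply]
    · obtain ⟨u, hu, rfl⟩ := List.mem_map.1 hx
      obtain ⟨w, hw, rfl⟩ := List.mem_map.1 hy
      exact (hcomm u hu w hw).map e.symm

end Cfsg.Lib.FusionFrame
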