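import Cfsg.Agent.FusionFrame.Frame

/-!
The orbit of `z` in a frame has twenty-three points unless it is trivial: divisibility by the order of the automorphism
group leaves the sizes 45, 254, 276 and 2047, and each contradicts a rule transported from `z` to another point.
-/

set_option autoImplicit false
set_option linter.style.haveILetI false
set_option linter.unusedSectionVars false

namespace Cfsg.Lib.FusionFrame

variable {E : Type*} [CommGroup E] [Finite E] {z : E} {T : Set E} {Γ : Subgroup (MulAut E)}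

namespace Frame

variable (F : Frame z T Γ)
include F

theorem stable_pair : Stable z Γ (pairProds T) := by
  rintro γ hγ hz _ ⟨a, ha, b, hb, hne, rfl⟩
  exact ⟨γ a, F.stab γ hγ hz a ha, γ b, F.stab γ hγ hz b hb, γ.injective.ne hne, (map_mul γ a b).symm⟩

/-- A set of twenty-two points that is sent to itself. -/
theorem eq_of_card {W : Set E} (hW : Stable z Γ W) (h1 : (1 : E) ∉ W) (hz : z ∉ W) (hc : W.ncard = 22) :
    W = T ∨ W = shift z T := by
  have hs := F.split h1 hz
  have e1 := inter_card_cases F.trans_point hW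
  have e2 := inter_card_cases (F.trans_shift F.trans_point) hW
  have e3 := inter_card_cases F.trans_pair hW
  have e4 := inter_card_cases (F.trans_shift F.trans_pair) hW
  have e5 := inter_card_cases F.trans_triple hW
  rw [F.points] at e1
  rw [F.card_shift, F.points] at e2
  rw [F.pairs] at e3
  rw [F.card_shift, F.pairs] at e4
  rw [F.triples] at e5
  rcases e1 with ⟨a, a'⟩ | ⟨a, a'⟩ <;> rcases e2 with ⟨b, b'⟩ | ⟨b, b'⟩ <;>
    rcases e3 with ⟨-, c'⟩ | ⟨-, c'⟩ <;> rcases e4 with ⟨-, d'⟩ | ⟨-, d'⟩ <;>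
    rcases e5 with ⟨-, f'⟩ | ⟨-, f'⟩ <;>
    first
      | omega
      | exact Or.inl (Set.eq_of_subset_of_ncard_le a (by rw [hc, F.points]) (Set.toFinite _)).symm
      | exact Or.inr (Set.eq_of_subset_of_ncard_le b (by rw [hc, F.card_shift, F.points]) (Set.toFinite _)).symm

/-- The points sent into relation with `z`. -/
theorem in_set {X : Set E} (hX : Stable z Γ X) (hXO : X ⊆ orbitSet z Γ) (hzX : z ∉ X) (hc : X.ncard = 22) :
    {y | Rel z Γ X y z} = T ∨ {y | Rel z Γ X y z} = shift z T :=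
  F.eq_of_card (fun γ hγ hz y hy => by have := Rel.map hy hγ; rwa [hz] at this)
    (fun h => F.one_notMem_orbit (Rel.left_mem h)) (fun h => hzX ((rel_base hX).1 h)) ((in_card hX hXO).trans hc)

/-- One point set and the other cannot both lead back to `z` from the same point. -/
theorem in_sets (h1 : T ⊆ orbitSet z Γ) (h2 : shift z T ⊆ orbitSet z Γ) :
    ({y | Rel z Γ T y z} = T ∧ {y | Rel z Γ (shift z T) y z} = shift z T) ∨
      ({y | Rel z Γ T y z} = shift z T ∧ {y | Rel z Γ (shift z T) y z} = T) := by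
  have hne : ∀ W : Set E, W.ncard = 22 → {y | Rel z Γ T y z} = W → {y | Rel z Γ (shift z T) y z} ≠ W := by
    intro W hW e e'
    obtain ⟨y, hy⟩ := Set.nonempty_of_ncard_ne_zero (s := W) (by rw [hW]; norm_num)
    exact rel_disjoint F.stable_point F.point_shift (show Rel z Γ T y z from e.symm.subset hy) (e'.symm.subset hy)
  rcases F.in_set F.stable_point h1 F.z_notMem.1 F.points with e | e <;>
    rcases F.in_set F.stable_shift h2 F.z_notMem.2.1 (by rw [F.card_shift, F.points]) with e' | e'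
  exacts [absurd e' (hne T F.points e), Or.inl ⟨e, e'⟩, Or.inr ⟨e, e'⟩,
    absurd e' (hne _ (by rw [F.card_shift, F.points]) e)]

/-- The product with a point of the one kind is a point of the other kind. -/
theorem rel_other {y x : E} (h : Rel z Γ T y x) : Rel z Γ (shift z T) y (y * x) := by
  obtain ⟨γ, hγ, rfl, u, hu, rfl⟩ := h
  exact ⟨γ, hγ, rfl, z * u, ⟨u, hu, rfl⟩, map_mul γ z u⟩

theorem others {X : Set E} (hc : X.ncard = 22) (u : E) : 1 < (X \ {u}).ncard := by
  have := Set.le_ncard_sdiff {u} X (Set.toFinite _)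
  rw [hc, Set.ncard_singleton] at this
  omega

theorem not_fortyfive (h1 : T ⊆ orbitSet z Γ) (h2 : shift z T ⊆ orbitSet z Γ)
    (h3 : Disjoint (pairProds T) (orbitSet z Γ)) (h4 : Disjoint (shift z (pairProds T)) (orbitSet z Γ))
    (h5 : Disjoint (tripleProds T) (orbitSet z Γ)) : False := by
  obtain ⟨a, ha⟩ := Set.nonempty_of_ncard_ne_zero (s := T) (by rw [F.points]; norm_num)
  obtain ⟨b, ⟨hb, hba⟩⟩ := Set.nonempty_of_ncard_ne_zero (s := T \ {a}) (by have := F.others F.points a; omega)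
  obtain ⟨γ, hγ, rfl⟩ := h1 ha
  have hu : γ⁻¹ b ∈ orbitSet z Γ := orbit_closed (h1 hb) (inv_mem hγ)
  have hzu : z * γ⁻¹ b ∈ orbitSet z Γ := by
    rcases F.cover (γ⁻¹ b) with h | h | h | h | h | h | h
    · exact absurd (h ▸ hu) F.one_notMem_orbit
    · exact absurd ((γ.apply_symm_apply b).symm.trans (congrArg γ h)) hba
    · exact h2 ⟨_, h, rfl⟩
    · exact h1 ((mem_shift_iff F.hz).1 h)
    · exact absurd hu (Set.disjoint_left.1 h3 h)
    · exact absurd hu (Set.disjoint_left.1 h4 h)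
    · exact absurd hu (Set.disjoint_left.1 h5 h)
  have := orbit_closed hzu hγ
  rw [map_mul, show γ (γ⁻¹ b) = b from γ.apply_symm_apply b] at this
  exact Set.disjoint_left.1 h3 ⟨_, ha, b, hb, fun e => hba e.symm, rfl⟩ this

/-- `t * (t₁ * t₂)` for a pair not containing `t` is a triple. -/
theorem triple_of_pair {t x : E} (ht : t ∈ T) (hx : x ∈ pairProds T) :
    t * x ∈ tripleProds T ∨ ∃ t' ∈ T, t' ≠ t ∧ x = t * t' := by
  obtain ⟨a, ha, b, hb, hne, rfl⟩ := hx
  by_cases h1 : a = t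
  · exact Or.inr ⟨b, hb, fun e => hne (h1.trans e.symm), by rw [h1]⟩
  by_cases h2 : b = t
  · exact Or.inr ⟨a, ha, fun e => hne (e.trans h2.symm), by rw [h2, mul_comm]⟩
  exact Or.inl ⟨t, ht, a, ha, b, hb, Ne.symm h1, Ne.symm h2, hne, mul_assoc t a b⟩

theorem not_two_fifty_four (h1 : T ⊆ orbitSet z Γ) (h2 : Disjoint (shift z T) (orbitSet z Γ))
    (h5 : Disjoint (tripleProds T) (orbitSet z Γ))
    (hP : (pairProds T ⊆ orbitSet z Γ ∧ Disjoint (shift z (pairProds T)) (orbitSet z Γ)) ∨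
      (Disjoint (pairProds T) (orbitSet z Γ) ∧ shift z (pairProds T) ⊆ orbitSet z Γ)) : False := by
  have hI : {y | Rel z Γ T y z} = T := (F.in_set F.stable_point h1 F.z_notMem.1 F.points).resolve_right fun e => by
    obtain ⟨a, ha⟩ := Set.nonempty_of_ncard_ne_zero (s := shift z T) (by rw [F.card_shift, F.points]; norm_num)
    exact Set.disjoint_left.1 h2 ha (show Rel z Γ T a z from e.symm.subset ha).left_mem
  obtain ⟨t, ht⟩ := Set.nonempty_of_ncard_ne_zero (s := T) (by rw [F.points]; norm_num)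
  obtain ⟨γ, hγ, hγt, u, hu, hγu⟩ := show Rel z Γ T t z from hI.symm.subset ht
  have hbO : ∀ v ∈ T, v ≠ u → γ v ∈ orbitSet z Γ ∧ γ v ≠ z ∧ γ v ≠ t := fun v hv hne =>
    ⟨orbit_closed (h1 hv) hγ, fun e => hne (γ.injective (e.trans hγu.symm)), fun e => F.z_notMem.1
      (γ.injective (e.trans hγt.symm) ▸ hv)⟩
  rcases hP with ⟨hp, hp'⟩ | ⟨hp, hp'⟩
  · obtain ⟨v, hv, hvu⟩ := Set.nonempty_of_ncard_ne_zero (s := T \ {u}) (by have := F.others F.points u; omega)
    obtain ⟨hb, hbz, -⟩ := hbO v hv hvu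
    have hzb : z * γ v ∈ orbitSet z Γ := by
      have e : γ (u * v) = z * γ v := by rw [map_mul, hγu]
      exact e ▸ orbit_closed (hp ⟨u, hu, v, hv, Ne.symm hvu, rfl⟩) hγ
    rcases F.cover (γ v) with h | h | h | h | h | h | h
    · exact F.one_notMem_orbit (h ▸ hb)
    · exact hbz h
    · exact Set.disjoint_left.1 h2 ⟨_, h, rfl⟩ hzb
    · exact Set.disjoint_left.1 h2 h hb
    · exact Set.disjoint_left.1 hp' ⟨_, h, rfl⟩ hzb
    · exact Set.disjoint_left.1 hp' h hb
    · exact Set.disjoint_left.1 h5 h hb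
  · -- every such image is a point or `z` times a pair through `t`
    have hshape : ∀ v ∈ T, v ≠ u → (γ v ∈ T ∧ γ v ≠ t) ∨ ∃ t' ∈ T, t' ≠ t ∧ γ v = z * (t * t') := by
      intro v hv hvu
      obtain ⟨hb, hbz, hbt⟩ := hbO v hv hvu
      have htzb : t * (z * γ v) ∈ orbitSet z Γ := by
        have e : γ (z * (u * v)) = t * (z * γ v) := by rw [map_mul, map_mul, hγt, hγu]
        exact e ▸ orbit_closed (hp' ⟨_, ⟨u, hu, v, hv, Ne.symm hvu, rfl⟩, rfl⟩) hγ
      rcases F.cover (γ v) with h | h | h | h | h | h | h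
      · exact absurd (h ▸ hb) F.one_notMem_orbit
      · exact absurd h hbz
      · exact Or.inl ⟨h, hbt⟩
      · exact absurd hb (Set.disjoint_left.1 h2 h)
      · exact absurd hb (Set.disjoint_left.1 hp h)
      · obtain ⟨x, hx, e⟩ := h
        rcases F.triple_of_pair ht hx with k | ⟨t', ht', hne, rfl⟩
        · rw [← e, show z * (z * x) = x from F.mul_self_left z x] at htzb
          exact absurd htzb (Set.disjoint_left.1 h5 k)
        · exact Or.inr ⟨t', ht', hne, e.symm⟩
      · exact absurd hb (Set.disjoint_left.1 h5 h)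
    -- two images of the same shape
    have hpair : ∀ v ∈ T, ∀ w ∈ T, v ≠ w → t * (γ v * γ w) ∈ orbitSet z Γ := fun v hv w hw hne => by
      rw [← hγt, ← map_mul, ← map_mul]
      exact orbit_closed (hp' ⟨_, ⟨v, hv, w, hw, hne, rfl⟩, rfl⟩) hγ
    have hsame : ∀ v ∈ T, ∀ w ∈ T, v ≠ w → v ≠ u → w ≠ u → ¬ (γ v ∈ T ↔ γ w ∈ T) := by
      intro v hv w hw hne hvu hwu hiff
      have hO := hpair v hv w hw hne
      have hne' : γ v ≠ γ w := γ.injective.ne hne
      rcases hshape v hv hvu with ⟨hvT, hvt⟩ | ⟨a, ha, hat, ea⟩ <;>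
        rcases hshape w hw hwu with ⟨hwT, hwt⟩ | ⟨b, hb, hbt, eb⟩
      · exact Set.disjoint_left.1 h5 ⟨t, ht, γ v, hvT, γ w, hwT, Ne.symm hvt, Ne.symm hwt, hne', rfl⟩
          (by rwa [mul_assoc])
      · have := hiff.1 hvT
        rw [eb] at this
        exact Set.disjoint_left.1 F.point_pair (Or.inl this)
          (Or.inr ⟨t * b, ⟨t, ht, b, hb, Ne.symm hbt, rfl⟩, rfl⟩)
      · have := hiff.2 hwT
        rw [ea] at this
        exact Set.disjoint_left.1 F.point_pair (Or.inl this)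
          (Or.inr ⟨t * a, ⟨t, ht, a, ha, Ne.symm hat, rfl⟩, rfl⟩)
      · rw [ea, eb, mul_mul_mul_comm, F.hz, one_mul, mul_mul_mul_comm, F.sq, one_mul] at hO
        have hab : a ≠ b := fun e => hne' (by rw [ea, eb, e])
        exact Set.disjoint_left.1 h5 ⟨t, ht, a, ha, b, hb, Ne.symm hat, Ne.symm hbt, hab, (mul_assoc t a b)⟩ hO
    obtain ⟨S, hS, hc⟩ := Set.exists_subset_card_eq (s := T \ {u}) (n := 3) (by
      have := Set.le_ncard_sdiff {u} T (Set.toFinite _)
      rw [F.points, Set.ncard_singleton] at this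
      omega)
    obtain ⟨p, q, r, hpq, hpr, hqr, rfl⟩ := Set.ncard_eq_three.1 hc
    have mp : p ∈ T ∧ p ≠ u := hS (by simp)
    have mq : q ∈ T ∧ q ≠ u := hS (by simp)
    have mr : r ∈ T ∧ r ≠ u := hS (by simp)
    have k1 := hsame p mp.1 q mq.1 hpq mp.2 mq.2
    have k2 := hsame p mp.1 r mr.1 hpr mp.2 mr.2
    have k3 := hsame q mq.1 r mr.1 hqr mq.2 mr.2
    tauto

/-- With both point sets and the products of pairs in the orbit, a point in relation with `z` is in relation with
exactly `z` and the other points of its kind. -/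
theorem exact_rel (h4 : Disjoint (shift z (pairProds T)) (orbitSet z Γ))
    (h5 : Disjoint (tripleProds T) (orbitSet z Γ)) (h3 : pairProds T ⊆ orbitSet z Γ) {X : Set E}
    (hX : Stable z Γ X) (hXO : X ⊆ orbitSet z Γ) (hzX : z ∉ X) (hc : X.ncard = 22)
    (hXT : pairProds X = pairProds T) (hzt : ∀ a ∈ X, z * a ∉ X ∧ z * a ∈ orbitSet z Γ)
    {t : E} (ht : t ∈ T) (hr : Rel z Γ X t z) {w : E} : Rel z Γ X t w ↔ w = z ∨ (w ∈ T ∧ w ≠ t) := by
  obtain ⟨γ, hγ, hγt, u, hu, hγu⟩ := hr
  have key : ∀ v ∈ X, v ≠ u → γ v ∈ T ∧ γ v ≠ t := by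
    intro v hv hvu
    have hb : γ v ∈ orbitSet z Γ := orbit_closed (hXO hv) hγ
    have hbt : γ v ≠ t := fun e => hzX (γ.injective (e.trans hγt.symm) ▸ hv)
    have hbz : γ v ≠ z := fun e => hvu (γ.injective (e.trans hγu.symm))
    have hzb : z * γ v ∈ orbitSet z Γ := by
      have e : γ (u * v) = z * γ v := by rw [map_mul, hγu]
      exact e ▸ orbit_closed (h3 (hXT.subset ⟨u, hu, v, hv, Ne.symm hvu, rfl⟩)) hγ
    have htb : t * γ v ∈ orbitSet z Γ := by
      rw [← hγt, ← map_mul]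
      exact orbit_closed (hzt v hv).2 hγ
    rcases F.cover (γ v) with h | h | h | h | h | h | h
    · exact absurd (h ▸ hb) F.one_notMem_orbit
    · exact absurd h hbz
    · exact ⟨h, hbt⟩
    · exfalso
      obtain ⟨a, ha, e⟩ := h
      by_cases hat : a = t
      · have e1 : γ v = γ (u * z) := by
          rw [map_mul, hγu, hγt, ← hat]
          exact e.symm
        refine absurd ?_ (hzt u hu).1
        rw [mul_comm, ← γ.injective e1]
        exact hv
      · exact Set.disjoint_left.1 h4 (⟨t * a, ⟨t, ht, a, ha, Ne.symm hat, rfl⟩, by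
          rw [← e]; exact mul_left_comm z t a⟩ : t * γ v ∈ shift z (pairProds T)) htb
    · exact absurd hzb (Set.disjoint_left.1 h4 ⟨_, h, rfl⟩)
    · exact absurd hb (Set.disjoint_left.1 h4 h)
    · exact absurd hb (Set.disjoint_left.1 h5 h)
  have himg : γ '' (X \ {u}) = T \ {t} := by
    refine Set.eq_of_subset_of_ncard_le ?_ ?_ (Set.toFinite _)
    · rintro _ ⟨v, ⟨hv, hvu⟩, rfl⟩
      exact key v hv hvu
    · rw [Set.ncard_image_of_injective _ γ.injective, Set.ncard_sdiff_singleton_of_mem ht,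
        Set.ncard_sdiff_singleton_of_mem hu, F.points, hc]
  constructor
  · intro h
    rw [← hγt] at h
    obtain ⟨v, hv, rfl⟩ := (rel_iff hX hγ).1 h
    by_cases hvu : v = u
    · exact Or.inl (hvu ▸ hγu)
    · exact Or.inr (key v hv hvu)
  · rintro (rfl | hw)
    · exact ⟨γ, hγ, hγt, u, hu, hγu⟩
    · obtain ⟨v, hv, rfl⟩ := himg.symm.subset hw
      exact ⟨γ, hγ, hγt, v, hv.1, rfl⟩

end Frame

end Cfsg.Lib.FusionFrame
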