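import Cfsg.Agent.FusionFrame.CliqueGroup
import Cfsg.Prelude.Def_Transfer

/-!
The Thompson subgroup of a Sylow 2-subgroup of the cover is the preimage of the group of a maximal commuting set.
-/

set_option autoImplicit false
set_option linter.style.haveILetI false
set_option linter.unusedSectionVars false

namespace Cfsg.Lib.FusionFrame

open Cfsg Subgroup Cfsg.Lib.ThreeTr Cfsg.Lib.DoubleCover

universe u v

variable {C : Type u} [Group C] [Finite C] {Q : Type v} [Group Q] [Finite Q] {π : C →* Q} {D : Set Q} {z : C}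
  {L : Set C} (K : Cover π D z L)
include K

theorem Cover.thompson_eq (S : Sylow 2 C) :
    ∃ B, IsMaxClique D B ∧ Cfsg.thompsonSubgroupOf 2 (S : Subgroup C) = (closure B).comap π := by
  haveI : Fact (Nat.Prime 2) := ⟨Nat.prime_two⟩
  have h := K.m22
  obtain ⟨B₀, hB₀⟩ := exists_maxClique h
  obtain ⟨P, hP⟩ := (K.isPGroup_clique hB₀).exists_le_sylow
  obtain ⟨g, hg⟩ := MulAction.exists_smul_eq C P S
  set q := π g
  have hB : IsMaxClique D ((fun b => q * b * q⁻¹) '' B₀) := by
    refine ⟨?_, ?_, fun y hy hc => ⟨q⁻¹ * y * q, hB₀.max _ (by simpa using conj_mem h.cls q⁻¹ hy) fun b hb => ?_, by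
      show q * (q⁻¹ * y * q) * q⁻¹ = y
      group⟩⟩
    · rintro _ ⟨b, hb, rfl⟩
      exact conj_mem h.cls q (hB₀.sub hb)
    · rintro _ ⟨a, ha, rfl⟩ _ ⟨b, hb, rfl⟩
      exact (conj_commute_iff q a b).2 (hB₀.comm a ha b hb)
    · refine (conj_commute_iff q _ _).1 ?_
      rw [show q * (q⁻¹ * y * q) * q⁻¹ = y by group]
      exact hc _ ⟨b, hb, rfl⟩
  refine ⟨_, hB, ?_⟩
  set A := (closure ((fun b => q * b * q⁻¹) '' B₀)).comap π
  have hAS : A ≤ (S : Subgroup C) := by
    intro x hx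
    have hmap : (closure B₀).map (MulAut.conj q).toMonoidHom = closure ((fun b => q * b * q⁻¹) '' B₀) := by
      rw [MonoidHom.map_closure]; rfl
    obtain ⟨y, hy, e⟩ := (hmap.ge (mem_comap.1 hx))
    rw [← hg, Sylow.coe_subgroup_smul]
    refine ⟨g⁻¹ * x * g, hP (mem_comap.2 ?_), by simp [mul_assoc]⟩
    have e' : q * y * q⁻¹ = π x := e
    rw [map_mul, map_mul, map_inv, ← e', show (π g)⁻¹ * (q * y * q⁻¹) * π g = y by simp only [q]; group]
    exact hy
  obtain ⟨hsq, hcm⟩ := K.cliqueGroup_elementary hB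
  set A' := A.subgroupOf (S : Subgroup C)
  have hA'card : Nat.card ↥A' = 2 ^ 11 := by
    rw [Nat.card_congr (subgroupOfEquivOfLe hAS).toEquiv]
    exact K.card_clique hB
  have hA'e : Cfsg.IsElementaryAbelian 2 A' :=
    ⟨⟨⟨fun a b => Subtype.ext (Subtype.ext (hcm _ a.2 _ b.2).eq)⟩⟩,
      fun a ha => Subtype.ext (by rw [pow_two]; exact hsq _ ha)⟩
  have hsmall : ∀ E : Subgroup ↥(S : Subgroup C), Cfsg.IsElementaryAbelian 2 E →
      E ≤ A' ∨ Nat.card ↥E < Nat.card ↥A' := by
    intro E hEe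
    rcases K.elementary_le hB S.isPGroup' hAS (E := E.map (S : Subgroup C).subtype) (map_subtype_le E) (by
        rintro _ ⟨x, hx, rfl⟩
        have := congrArg Subtype.val (hEe.2 x hx)
        rw [← pow_two]; exact this) (by
        rintro _ ⟨x, hx, rfl⟩ _ ⟨y, hy, rfl⟩
        haveI := hEe.1
        exact congrArg (fun z : ↥E => ((z : ↥(S : Subgroup C)) : C)) (mul_comm' (⟨x, hx⟩ : ↥E) ⟨y, hy⟩)) with h' | h'
    · exact Or.inl fun x hx => h' ⟨x, hx, rfl⟩
    · exact Or.inr (by rwa [hA'card, ← Subgroup.card_subtype _ E])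
  have hJ : Cfsg.maxElementaryAbelianSubgroups 2 ↥(S : Subgroup C) = {A'} := by
    ext E
    constructor
    · rintro ⟨hEe, hEmax⟩
      rcases hsmall E hEe with hle | hlt
      · exact Subgroup.eq_of_le_of_card_ge hle (hEmax A' hA'e)
      · exact absurd (hEmax A' hA'e) (by omega)
    · rintro rfl
      refine ⟨hA'e, fun E hEe => ?_⟩
      rcases hsmall E hEe with hle | hlt
      · exact Nat.card_le_card_of_injective (Subgroup.inclusion hle) (Subgroup.inclusion_injective hle)
      · exact hlt.le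
  rw [Cfsg.thompsonSubgroupOf, Cfsg.thompsonSubgroup, hJ, sSup_singleton, Subgroup.map_subgroupOf_eq_of_le hAS]

end Cfsg.Lib.FusionFrame
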